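import Mathlib
import Cfsg.Agent.H915.PrimeField

/-!
# `PSU₅(q)` has no normal 2-covering: the normalisers of the fields of degree 5 (helper269, for S2499)
-/

set_option autoImplicit false
set_option linter.style.haveILetI false
set_option linter.unusedSectionVars false

namespace Cfsg.Agent.H269.U5

open Cfsg Cfsg.Geo
open scoped MatrixGroups Matrix

variable {F : Type*} [Field F] [Fintype F] {K : Subalgebra F (Matrix (Fin 5) (Fin 5) F)}

theorem hK' (hK : IsFieldSubalgebra 5 K) : IsFieldSubalgebra (Fintype.card (Fin 5)) K := by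
  rw [Fintype.card_fin]; exact hK

theorem hp5 : (Fintype.card (Fin 5)).Prime := by rw [Fintype.card_fin]; norm_num

/-- there are non-scalar elements -/
theorem exists_nonscalar (hK : IsFieldSubalgebra 5 K) : ∃ k ∈ K, ∀ c : F, k ≠ c • (1 : Matrix (Fin 5) (Fin 5) F) := by
  by_contra hcon
  push Not at hcon
  have h1 : Module.finrank F K ≤ 1 := by
    refine finrank_le_one (1 : K) fun w => ?_
    obtain ⟨c, hc⟩ := hcon w w.2
    exact ⟨c, Subtype.ext hc.symm⟩
  rw [hK.finrank_eq] at h1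
  omega

theorem pow_card_five (hK : IsFieldSubalgebra 5 K) {k : Matrix (Fin 5) (Fin 5) F} (hk : k ∈ K) :
    k ^ (Fintype.card F ^ 5) = k := by
  by_cases h0 : k = 0
  · subst h0
    exact zero_pow (pow_ne_zero _ Fintype.card_ne_zero)
  · have h1 := Cfsg.Agent.H907.pow_card_sub_one hK hk h0
    have h2 : 1 ≤ Fintype.card F ^ 5 := Nat.one_le_pow _ _ Fintype.card_pos
    calc k ^ (Fintype.card F ^ 5) = k ^ (Fintype.card F ^ 5 - 1 + 1) := by rw [Nat.sub_add_cancel h2]
      _ = k := by rw [pow_succ, h1, one_mul]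

/-- the fifth power of an element of the normaliser lies in the field -/
theorem pow_five_mem (hK : IsFieldSubalgebra 5 K) {g : GL (Fin 5) F} (hg : g ∈ subalgebraNormalizer K) :
    ((g ^ 5 : GL (Fin 5) F) : Matrix (Fin 5) (Fin 5) F) ∈ K := by
  obtain ⟨i, -, hi⟩ := Cfsg.Agent.H915.exists_frobenius hp5 (hK' hK) hg
  have key : ∀ m : ℕ, ∀ k ∈ K, ((g ^ m : GL (Fin 5) F) : Matrix (Fin 5) (Fin 5) F) * k *
      (((g ^ m)⁻¹ : GL (Fin 5) F) : Matrix (Fin 5) (Fin 5) F) = k ^ (Fintype.card F ^ (i * m)) := by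
    intro m
    induction m with
    | zero => intro k _; simp
    | succ m ih =>
      intro k hk
      rw [pow_succ', _root_.mul_inv_rev, Units.val_mul, Units.val_mul]
      calc (g : Matrix (Fin 5) (Fin 5) F) * ((g ^ m : GL (Fin 5) F) : Matrix (Fin 5) (Fin 5) F) * k *
            ((((g ^ m)⁻¹ : GL (Fin 5) F) : Matrix (Fin 5) (Fin 5) F) * ((g⁻¹ : GL (Fin 5) F) : Matrix (Fin 5) (Fin 5) F))
          = (g : Matrix (Fin 5) (Fin 5) F) * (((g ^ m : GL (Fin 5) F) : Matrix (Fin 5) (Fin 5) F) * k *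
            (((g ^ m)⁻¹ : GL (Fin 5) F) : Matrix (Fin 5) (Fin 5) F)) * ((g⁻¹ : GL (Fin 5) F) : Matrix (Fin 5) (Fin 5) F) := by
            simp only [mul_assoc]
        _ = k ^ (Fintype.card F ^ (i * (m + 1))) := by
            rw [ih k hk, hi _ (K.pow_mem hk _), ← pow_mul, ← pow_add, mul_add, mul_one]
  have hpow : ∀ (j : ℕ), ∀ k ∈ K, k ^ (Fintype.card F ^ (j * 5)) = k := by
    intro j
    induction j with
    | zero => intro k _; rw [zero_mul, pow_zero, pow_one]
    | succ j ih =>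
      intro k hk
      rw [add_mul, one_mul, pow_add, pow_mul, ih k hk, pow_card_five hK hk]
  obtain ⟨k, hk, hns⟩ := exists_nonscalar hK
  refine Cfsg.Agent.H915.mem_of_commute hp5 (hK' hK) hk hns ?_
  have h1 := key 5 k hk
  rw [hpow i k hk] at h1
  calc ((g ^ 5 : GL (Fin 5) F) : Matrix (Fin 5) (Fin 5) F) * k = ((g ^ 5 : GL (Fin 5) F) : Matrix (Fin 5) (Fin 5) F) * k *
        ((((g ^ 5)⁻¹ : GL (Fin 5) F) : Matrix (Fin 5) (Fin 5) F) * ((g ^ 5 : GL (Fin 5) F) : Matrix (Fin 5) (Fin 5) F)) := by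
        rw [← Units.val_mul, inv_mul_cancel, Units.val_one, mul_one]
    _ = k * ((g ^ 5 : GL (Fin 5) F) : Matrix (Fin 5) (Fin 5) F) := by rw [← mul_assoc, h1]

/-- an element of the field with a fixed vector is trivial -/
theorem eq_one_of_mem (hK : IsFieldSubalgebra 5 K) {g : Matrix (Fin 5) (Fin 5) F} (hg : g ∈ K) {v : Fin 5 → F}
    (hv : v ≠ 0) (hgv : g *ᵥ v = v) : g = 1 := by
  by_contra hne
  obtain ⟨y, hy, hy1⟩ := hK.inv (g - 1) (K.sub_mem hg K.one_mem) (sub_ne_zero.2 hne)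
  have h1 : y * (g - 1) = 1 := by rw [← hK.comm _ (K.sub_mem hg K.one_mem) _ hy]; exact hy1
  apply hv
  rw [← Matrix.one_mulVec v, ← h1, ← Matrix.mulVec_mulVec, Matrix.sub_mulVec, hgv, Matrix.one_mulVec, sub_self,
    Matrix.mulVec_zero]

/-- elements of prime order `r ≠ 5` of the normaliser have no fixed vector -/
theorem no_fix (hK : IsFieldSubalgebra 5 K) {g : GL (Fin 5) F} (hg : g ∈ subalgebraNormalizer K) {r : ℕ} (hr : r.Prime)
    (h5 : r ≠ 5) (hgr : g ^ r = 1) {v : Fin 5 → F} (hv : v ≠ 0) (hgv : (g : Matrix (Fin 5) (Fin 5) F) *ᵥ v = v) :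
    g = 1 := by
  have h1 := pow_five_mem hK hg
  have h2 : ((g ^ 5 : GL (Fin 5) F) : Matrix (Fin 5) (Fin 5) F) *ᵥ v = v := by
    have key : ∀ m : ℕ, ((g ^ m : GL (Fin 5) F) : Matrix (Fin 5) (Fin 5) F) *ᵥ v = v := by
      intro m
      induction m with
      | zero => rw [pow_zero, Units.val_one, Matrix.one_mulVec]
      | succ m ih => rw [pow_succ, Units.val_mul, ← Matrix.mulVec_mulVec, hgv, ih]
    exact key 5
  have h3 : g ^ 5 = 1 := Units.ext (eq_one_of_mem hK h1 hv h2)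
  have hco : Nat.Coprime r 5 := (Nat.coprime_primes hr (by norm_num)).2 h5
  have h4 : orderOf g ∣ Nat.gcd r 5 := Nat.dvd_gcd (orderOf_dvd_of_pow_eq_one hgr) (orderOf_dvd_of_pow_eq_one h3)
  rw [hco] at h4
  exact orderOf_eq_one_iff.1 (Nat.dvd_one.1 h4)

/-- involutions of determinant one -/
theorem no_invol (hK : IsFieldSubalgebra 5 K) {g : GL (Fin 5) F} (hg : g ∈ subalgebraNormalizer K)
    (hg2 : g ^ 2 = 1) (hdet : (g : Matrix (Fin 5) (Fin 5) F).det = 1) : g = 1 := by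
  have h1 := pow_five_mem hK hg
  have h5 : g ^ 5 = g := by
    have h6 : g ^ (2 * 2 + 1) = g := by rw [pow_succ, pow_mul, hg2, one_pow, one_mul]
    exact h6
  rw [h5] at h1
  have h2 : (g : Matrix (Fin 5) (Fin 5) F) * g = 1 := by
    rw [← Units.val_mul, ← pow_two, hg2, Units.val_one]
  by_contra hne
  have hne' : (g : Matrix (Fin 5) (Fin 5) F) - 1 ≠ 0 := fun h => hne (Units.ext (sub_eq_zero.1 h))
  obtain ⟨y, hy, hy1⟩ := hK.inv _ (K.sub_mem h1 K.one_mem) hne'
  have h3 : ((g : Matrix (Fin 5) (Fin 5) F) + 1) * ((g : Matrix (Fin 5) (Fin 5) F) - 1) = 0 := by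
    rw [add_mul, mul_sub, h2, one_mul, mul_one]; abel
  have h4 : (g : Matrix (Fin 5) (Fin 5) F) + 1 = 0 := by
    calc (g : Matrix (Fin 5) (Fin 5) F) + 1 = ((g : Matrix (Fin 5) (Fin 5) F) + 1) *
          (((g : Matrix (Fin 5) (Fin 5) F) - 1) * y) := by rw [hy1, mul_one]
      _ = 0 := by rw [← mul_assoc, h3, zero_mul]
  have h6 : (g : Matrix (Fin 5) (Fin 5) F) = -1 := eq_neg_of_add_eq_zero_left h4
  rw [h6, Matrix.det_neg, Matrix.det_one, mul_one, Fintype.card_fin] at hdet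
  apply hne
  apply Units.ext
  rw [h6, Units.val_one]
  have h7 : (-1 : F) = 1 := by linear_combination hdet
  ext i j
  rw [Matrix.neg_apply]
  by_cases hij : i = j
  · subst hij; rw [Matrix.one_apply_eq]; exact h7
  · rw [Matrix.one_apply_ne hij, neg_zero]

end Cfsg.Agent.H269.U5
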