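import Mathlib
import Cfsg.Agent.Lib.Zsigmondy

/-!
# `PSU₅(q)` has no normal 2-covering: numbers (helper269, for S2499)
-/

set_option autoImplicit false
set_option linter.style.haveILetI false

namespace Cfsg.Agent.H269.U5

/-- `q = p ^ n`, and `p` has order `k n` modulo the prime `r` -/
structure PN (F : Type*) [Field F] [Fintype F] (p n q k r : ℕ) : Prop where
  pp : p.Prime
  n0 : 0 < n
  qp : q = p ^ n
  cF : Fintype.card F = q ^ 2
  pr : r.Prime
  k0 : 0 < k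
  iff : ∀ j, r ∣ p ^ j - 1 ↔ k * n ∣ j
  dv : k * n ∣ r - 1
  rp : ¬ r ∣ p

theorem exists_base {F : Type*} [Field F] [Fintype F] {q : ℕ} (hF : Fintype.card F = q ^ 2) :
    ∃ p n, p.Prime ∧ 0 < n ∧ q = p ^ n ∧ CharP F p := by
  obtain ⟨p, hchar⟩ := CharP.exists F
  obtain ⟨N, hp, hN⟩ := FiniteField.card F p
  have hqp : ∃ n, q = p ^ n := by
    have h1 : q ∣ p ^ (N : ℕ) := by rw [← hN, hF]; exact dvd_pow_self q (by norm_num)
    obtain ⟨n, -, hn⟩ := (Nat.dvd_prime_pow hp).1 h1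
    exact ⟨n, hn⟩
  obtain ⟨n, hn⟩ := hqp
  refine ⟨p, n, hp, ?_, hn, hchar⟩
  rcases Nat.eq_zero_or_pos n with rfl | h
  · rw [pow_zero] at hn
    rw [hn] at hF
    have : 1 < Fintype.card F := Fintype.one_lt_card
    omega
  · exact h

theorem exists_PN {F : Type*} [Field F] [Fintype F] {q : ℕ} (hF : Fintype.card F = q ^ 2) {p n : ℕ} (hp : p.Prime)
    (hn : 0 < n) (hq : q = p ^ n) {k : ℕ} (hk : 3 ≤ k) (hk6 : ¬ (p = 2 ∧ k * n = 6)) : ∃ r, PN F p n q k r := by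
  have h3 : 3 ≤ k * n := hk.trans (Nat.le_mul_of_pos_right k hn)
  obtain ⟨r, hr, hr1, hr2, hr3⟩ := Cfsg.Agent.Lib.Zsigmondy.exists_primitive (a := p) (n := k * n)
    hp.two_le (by omega) (by omega) hk6
  exact ⟨r, ⟨hp, hn, hq, hF, hr, by omega, hr1, hr2, hr3⟩⟩

section

variable {F : Type*} [Field F] [Fintype F] {p n q k r : ℕ} (h : PN F p n q k r)

include h

theorem PN.ge : k * n < r := by
  have := Nat.le_of_dvd (by have := h.pr.two_le; omega) h.dv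
  have := h.pr.two_le
  omega

theorem PN.q2 : 2 ≤ q := by
  rw [h.qp]
  exact h.pp.two_le.trans (Nat.le_self_pow h.n0.ne' p)

theorem PN.ger : k < r := lt_of_le_of_lt (Nat.le_mul_of_pos_right k h.n0) h.ge

theorem PN.key (j : ℕ) : ((p ^ j : ℕ) : ZMod r) = 1 ↔ k * n ∣ j := by
  rw [← h.iff, ← Nat.cast_one, ZMod.natCast_eq_natCast_iff, Nat.ModEq.comm,
    Nat.modEq_iff_dvd' (Nat.one_le_pow _ _ h.pp.pos)]

theorem PN.qkey (j : ℕ) : (q : ZMod r) ^ j = 1 ↔ k ∣ j := by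
  rw [h.qp, ← Nat.cast_pow, ← pow_mul, h.key, mul_comm n j]
  exact Nat.mul_dvd_mul_iff_right h.n0

theorem PN.rq : ¬ r ∣ q := by
  rw [h.qp]
  exact fun h1 => h.rp (h.pr.dvd_of_dvd_pow h1)

theorem PN.cast_ne : ((r : ℕ) : F) ≠ 0 := by
  intro h1
  obtain ⟨p', hp'⟩ := CharP.exists F
  obtain ⟨N, hpp', hN⟩ := FiniteField.card F p'
  have h2 : p' ∣ r := (CharP.cast_eq_zero_iff F p' r).1 h1
  have h3 : p' = r := (Nat.prime_dvd_prime_iff_eq hpp' h.pr).1 h2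
  have h4 : r ∣ q ^ 2 := by
    rw [← h.cF, hN, h3]
    exact dvd_pow_self r N.ne_zero
  exact h.rq (h.pr.dvd_of_dvd_pow h4)

/-- `k = 2 d`: the order of `q²` -/
theorem PN.ord_sq {d : ℕ} (hd : k = 2 * d) : orderOf (Fintype.card F : ZMod r) = d := by
  have hd0 : 0 < d := by have := h.k0; omega
  apply Nat.dvd_antisymm
  · rw [orderOf_dvd_iff_pow_eq_one, h.cF]
    push_cast
    rw [← pow_mul, h.qkey, hd]
  · have h1 := pow_orderOf_eq_one (Fintype.card F : ZMod r)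
    rw [h.cF] at h1 ⊢
    push_cast at h1 ⊢
    rw [← pow_mul, h.qkey, hd] at h1
    exact Nat.dvd_of_mul_dvd_mul_left two_pos h1

/-- `k = 2 d`, `d` odd: the order of `-q` -/
theorem PN.ord_neg {d : ℕ} (hd : k = 2 * d) (hodd : Odd d) : orderOf (-(q : ZMod r)) = d := by
  have : Fact r.Prime := ⟨h.pr⟩
  have hd0 : 0 < d := by have := h.k0; omega
  have hqd : (q : ZMod r) ^ d = -1 := by
    have h1 : ((q : ZMod r) ^ d) ^ 2 = 1 := by rw [← pow_mul, h.qkey, hd, mul_comm]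
    rw [pow_two] at h1
    rcases mul_self_eq_one_iff.1 h1 with h2 | h2
    · exfalso
      rw [h.qkey, hd] at h2
      have := Nat.le_of_dvd hd0 h2
      omega
    · exact h2
  apply Nat.dvd_antisymm
  · rw [orderOf_dvd_iff_pow_eq_one, hodd.neg_pow, hqd, neg_neg]
  · set m := orderOf (-(q : ZMod r)) with hm
    have h1 : (-(q : ZMod r)) ^ m = 1 := pow_orderOf_eq_one _
    have h2 : (q : ZMod r) ^ (2 * m) = 1 := by
      rw [pow_mul, ← neg_sq, ← pow_mul, mul_comm, pow_mul, h1, one_pow]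
    rw [h.qkey, hd] at h2
    exact Nat.dvd_of_mul_dvd_mul_left two_pos h2

/-- `k = 4` -/
theorem PN.ord_neg_four (hk : k = 4) : orderOf (-(q : ZMod r)) = 4 := by
  have : Fact (Nat.Prime 2) := ⟨Nat.prime_two⟩
  apply orderOf_eq_prime_pow (p := 2) (n := 1)
  · rw [pow_one, neg_sq, h.qkey, hk]
    norm_num
  · rw [show 2 ^ (1 + 1) = 4 by norm_num, show (-(q : ZMod r)) ^ 4 = (q : ZMod r) ^ 4 by ring, h.qkey, hk]

end

end Cfsg.Agent.H269.U5
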