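import Mathlib
import Cfsg.Agent.H950.UHerm
import Cfsg.Agent.H918.UBase
import Cfsg.Agent.H269.U5.Num

/-!
# `PSU₅(q)` has no normal 2-covering: invariant subspaces (helper269, for S2499)
-/

set_option autoImplicit false
set_option linter.style.haveILetI false
set_option linter.unusedSectionVars false

namespace Cfsg.Agent.H269.U5

open Cfsg Module Cfsg.Agent.H951 Cfsg.Agent.H950
open scoped MatrixGroups Matrix

variable {F : Type*} [Field F] [Fintype F] {p n q k r : ℕ}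

/-- the linear map of a matrix -/
def T (g : GL (Fin 5) F) : Module.End F (Fin 5 → F) := Matrix.toLin' (g : Matrix (Fin 5) (Fin 5) F)

theorem T_apply (g : GL (Fin 5) F) (v : Fin 5 → F) : T g v = (g : Matrix (Fin 5) (Fin 5) F) *ᵥ v := by
  rw [T, Matrix.toLin'_apply]

theorem T_one : T (1 : GL (Fin 5) F) = 1 := by
  rw [T, Units.val_one, Matrix.toLin'_one]; rfl

theorem T_mul (g h : GL (Fin 5) F) : T (g * h) = T g * T h := by
  rw [T, Units.val_mul, Matrix.toLin'_mul]; rfl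

theorem T_pow (g : GL (Fin 5) F) (m : ℕ) : T (g ^ m) = T g ^ m := by
  induction m with
  | zero => rw [pow_zero, pow_zero, T_one]
  | succ m ih => rw [pow_succ, pow_succ, T_mul, ih]

theorem T_inj {g h : GL (Fin 5) F} (hgh : T g = T h) : g = h :=
  Units.ext (Matrix.toLin'.injective hgh)

theorem T_injective (g : GL (Fin 5) F) : Function.Injective (T g) := by
  intro u v huv
  have h1 := congrArg (T g⁻¹) huv
  rw [← Module.End.mul_apply, ← Module.End.mul_apply, ← T_mul, inv_mul_cancel, T_one] at h1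
  exact h1

theorem isom_T {g : GL (Fin 5) F} (hg : g ∈ Cfsg.GU 5 F q) : Isom (hermForm 5 F q) (T g) := by
  intro u v
  rw [T_apply, T_apply]
  exact hg u v

theorem finrank_V : finrank F (Fin 5 → F) = 5 := by rw [Module.finrank_fin_fun]

/-- the commutator space is nondegenerate and its dimension is a multiple of the order of `-q` -/
theorem cm_rank (h : PN F p n q k r) {x : Module.End F (Fin 5 → F)} (hx : Isom (hermForm 5 F q) x) (hxr : x ^ r = 1)
    (hx1 : x ≠ 1) : orderOf (-(q : ZMod r)) ∣ finrank F (cm x) ∧ finrank F (cm x) ≠ 0 ∧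
      finrank F (fx x) + finrank F (cm x) = 5 := by
  have : Fact r.Prime := ⟨h.pr⟩
  have hB := frm_herm h.cF 5
  have hsum := finrank_fx_add_cm h.cast_ne hxr
  rw [finrank_V] at hsum
  have hcmNd : Nd (hermForm 5 F q) (cm x) := by
    have := hx.nd_inf_cm hB h.cast_ne hxr inv_top (nd_top h.cF 5)
    rwa [top_inf_eq] at this
  refine ⟨ord_neg_dvd h.cF h.rq hx hxr inv_cm hcmNd (inf_fx_of_le_cm h.cast_ne hxr le_rfl), ?_, hsum⟩
  intro h0
  rw [Submodule.finrank_eq_zero] at h0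
  apply hx1
  refine LinearMap.ext fun u => ?_
  have h1 : x u - u ∈ cm x := mem_cm.2 ⟨u, rfl⟩
  rw [h0, Submodule.mem_bot, sub_eq_zero] at h1
  exact h1

theorem nd_fx (h : PN F p n q k r) {x : Module.End F (Fin 5 → F)} (hx : Isom (hermForm 5 F q) x) (hxr : x ^ r = 1) :
    Nd (hermForm 5 F q) (fx x) := by
  have := hx.nd_inf_fx (frm_herm h.cF 5) h.cast_ne hxr inv_top (nd_top h.cF 5)
  rwa [top_inf_eq] at this

theorem dvd_inf_cm (h : PN F p n q k r) {d : ℕ} (hd : k = 2 * d) {x : Module.End F (Fin 5 → F)} (hxr : x ^ r = 1)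
    {W : Submodule F (Fin 5 → F)} (hW : Inv x W) : d ∣ finrank F ↥(W ⊓ cm x) := by
  have : Fact r.Prime := ⟨h.pr⟩
  have h1 := ord_dvd_finrank hxr (hW.inf inv_cm) (inf_fx_of_le_cm h.cast_ne hxr inf_le_right)
  rwa [h.ord_sq hd] at h1

theorem dvd_inf_cm' (h : PN F p n q k r) {x : Module.End F (Fin 5 → F)} (hx : Isom (hermForm 5 F q) x) (hxr : x ^ r = 1)
    {W : Submodule F (Fin 5 → F)} (hW : Inv x W) (hWn : Nd (hermForm 5 F q) W) :
    orderOf (-(q : ZMod r)) ∣ finrank F ↥(W ⊓ cm x) := by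
  have : Fact r.Prime := ⟨h.pr⟩
  exact ord_neg_dvd h.cF h.rq hx hxr (hW.inf inv_cm) (hx.nd_inf_cm (frm_herm h.cF 5) h.cast_ne hxr hW hWn)
    (inf_fx_of_le_cm h.cast_ne hxr inf_le_right)

theorem le_fx_of_inf_cm (h : PN F p n q k r) {x : Module.End F (Fin 5 → F)} (hxr : x ^ r = 1)
    {W : Submodule F (Fin 5 → F)} (hW : Inv x W) (h0 : finrank F ↥(W ⊓ cm x) = 0) : W ≤ fx x := by
  rw [Submodule.finrank_eq_zero] at h0
  have := inf_fx_sup_inf_cm h.cast_ne hxr hW
  rw [h0, sup_bot_eq] at this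
  rw [← this]
  exact inf_le_right

/-! ### `k = 10` -/

theorem ten (h : PN F p n q 10 r) {x : Module.End F (Fin 5 → F)} (hx : Isom (hermForm 5 F q) x) (hxr : x ^ r = 1)
    (hx1 : x ≠ 1) {W : Submodule F (Fin 5 → F)} (hW : Inv x W) : W = ⊥ ∨ W = ⊤ := by
  obtain ⟨h1, h2, h3⟩ := cm_rank h hx hxr hx1
  rw [h.ord_neg (d := 5) rfl (by decide)] at h1
  have h4 := Nat.le_of_dvd (Nat.pos_of_ne_zero h2) h1
  have h5 : finrank F (cm x) = 5 := by omega
  have h6 : cm x = ⊤ := Submodule.eq_top_of_finrank_eq (by rw [h5, finrank_V])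
  have h7 := dvd_inf_cm h (d := 5) rfl hxr hW
  rw [h6, inf_top_eq] at h7
  have h8 : finrank F W ≤ 5 := by
    have := Submodule.finrank_le W
    rwa [finrank_V] at this
  rcases Nat.eq_zero_or_pos (finrank F W) with h9 | h9
  · exact Or.inl (Submodule.finrank_eq_zero.1 h9)
  · have := Nat.le_of_dvd h9 h7
    exact Or.inr (Submodule.eq_top_of_finrank_eq (by rw [finrank_V]; omega))

/-! ### `k = 6` -/

theorem six_rank (h : PN F p n q 6 r) {x : Module.End F (Fin 5 → F)} (hx : Isom (hermForm 5 F q) x) (hxr : x ^ r = 1)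
    (hx1 : x ≠ 1) : finrank F (cm x) = 3 ∧ finrank F (fx x) = 2 := by
  obtain ⟨h1, h2, h3⟩ := cm_rank h hx hxr hx1
  rw [h.ord_neg (d := 3) rfl (by decide)] at h1
  omega

theorem six_small (h : PN F p n q 6 r) {x : Module.End F (Fin 5 → F)} (hxr : x ^ r = 1)
    {W : Submodule F (Fin 5 → F)} (hW : Inv x W) (h2 : finrank F W ≤ 2) : W ≤ fx x := by
  have h3 := dvd_inf_cm h (d := 3) rfl hxr hW
  have h4 : finrank F ↥(W ⊓ cm x) ≤ finrank F W := Submodule.finrank_mono inf_le_left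
  exact le_fx_of_inf_cm h hxr hW (by omega)

/-- totally isotropic invariant subspaces have dimension one -/
theorem six_ti (h : PN F p n q 6 r) {x : Module.End F (Fin 5 → F)} (hx : Isom (hermForm 5 F q) x) (hxr : x ^ r = 1)
    (hx1 : x ≠ 1) {W : Submodule F (Fin 5 → F)} (hW : Inv x W) (hWt : TI (hermForm 5 F q) W) (h0 : W ≠ ⊥) :
    finrank F W = 1 := by
  have hB := frm_herm h.cF 5
  obtain ⟨h1, h2⟩ := six_rank h hx hxr hx1
  have h3 := hB.two_mul_finrank_le (nd_top h.cF 5) le_top hWt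
  rw [finrank_top, finrank_V] at h3
  have h4 := six_small h hxr hW (by omega)
  have h5 := hB.two_mul_finrank_le (nd_fx h hx hxr) h4 hWt
  have h6 : finrank F W ≠ 0 := fun h7 => h0 (Submodule.finrank_eq_zero.1 h7)
  omega

/-- a `p`-element has fixed vectors in every invariant subspace -/
theorem inf_fx_ne [hp : Fact p.Prime] (hpF : p ∣ Fintype.card F) {t : Module.End F (Fin 5 → F)} (ht : t ^ p = 1)
    {U : Submodule F (Fin 5 → F)} (hU : Inv t U) (h0 : U ≠ ⊥) : U ⊓ fx t ≠ ⊥ := by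
  intro h1
  have h2 := card_pow_modEq ht hU
  rw [h1, finrank_bot, pow_zero] at h2
  have h3 : finrank F U ≠ 0 := fun h7 => h0 (Submodule.finrank_eq_zero.1 h7)
  have h4 : Fintype.card F ^ finrank F U ≡ 0 [MOD p] :=
    (Nat.modEq_zero_iff_dvd).2 (hpF.trans (dvd_pow_self _ h3))
  have h5 := (Nat.modEq_zero_iff_dvd).1 (h2.symm.trans h4)
  exact hp.out.one_lt.ne' (Nat.dvd_one.1 h5)

theorem le_fx_of_one [hp : Fact p.Prime] (hpF : p ∣ Fintype.card F) {t : Module.End F (Fin 5 → F)} (ht : t ^ p = 1)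
    {U : Submodule F (Fin 5 → F)} (hU : Inv t U) (h1 : finrank F U = 1) : U ≤ fx t := by
  have h0 : U ≠ ⊥ := by
    rintro rfl
    rw [finrank_bot] at h1
    omega
  have h2 := inf_fx_ne hpF ht hU h0
  have h3 : finrank F ↥(U ⊓ fx t) ≠ 0 := fun h7 => h2 (Submodule.finrank_eq_zero.1 h7)
  have h4 : finrank F ↥(U ⊓ fx t) ≤ finrank F U := Submodule.finrank_mono inf_le_left
  have h5 : U ⊓ fx t = U := Submodule.eq_of_le_of_finrank_eq inf_le_left (by omega)
  exact inf_eq_left.1 h5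

theorem inv_of_comm {x t : Module.End F (Fin 5 → F)} (hc : x * t = t * x) : Inv t (fx x) ∧ Inv t (cm x) := by
  have hc' : ∀ v, x (t v) = t (x v) := fun v => congrArg (fun f : Module.End F (Fin 5 → F) => f v) hc
  constructor
  · intro w hw
    rw [mem_fx] at hw ⊢
    rw [hc', hw]
  · intro w hw
    obtain ⟨u, rfl⟩ := mem_cm.1 hw
    exact mem_cm.2 ⟨t u, by rw [map_sub, hc']⟩

/-- no nondegenerate line is invariant under `x` and `t` -/
theorem six_nd (h : PN F p n q 6 r) {x t : Module.End F (Fin 5 → F)} (hx : Isom (hermForm 5 F q) x) (hxr : x ^ r = 1)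
    (hx1 : x ≠ 1) (htI : Isom (hermForm 5 F q) t) (htj : Function.Injective t) (ht : t ^ p = 1) (ht1 : t ≠ 1)
    (hc : x * t = t * x) {W : Submodule F (Fin 5 → F)}
    (hW : Inv x W) (hWt : Inv t W) (hWn : Nd (hermForm 5 F q) W) : finrank F W ≠ 1 := by
  intro hW1
  have : Fact p.Prime := ⟨h.pp⟩
  have hpF : p ∣ Fintype.card F := by
    rw [h.cF, h.qp, ← pow_mul]
    exact dvd_pow_self p (by have := h.n0; omega)
  have hB := frm_herm h.cF 5
  obtain ⟨h1, h2⟩ := six_rank h hx hxr hx1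
  have h3 := six_small h hxr hW (by omega)
  obtain ⟨hfi, hci⟩ := inv_of_comm hc
  obtain ⟨hfi', hci'⟩ := inv_of_comm hc.symm
  -- `t` is trivial on `[V, x]`
  have h4 : cm x ≤ fx t := by
    have h5 : cm x ⊓ fx t ≠ ⊥ := inf_fx_ne hpF ht hci (by
      intro h6
      rw [h6, finrank_bot] at h1
      omega)
    have h6 : Inv x (cm x ⊓ fx t) := inv_cm.inf hfi'
    have h7 := dvd_inf_cm h (d := 3) rfl hxr h6
    have h8 : cm x ⊓ fx t ⊓ cm x = cm x ⊓ fx t := inf_eq_left.2 inf_le_left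
    rw [h8] at h7
    have h9 : finrank F ↥(cm x ⊓ fx t) ≠ 0 := fun h7 => h5 (Submodule.finrank_eq_zero.1 h7)
    have h10 : finrank F ↥(cm x ⊓ fx t) ≤ finrank F (cm x) := Submodule.finrank_mono inf_le_left
    have h11 : cm x ⊓ fx t = cm x := Submodule.eq_of_le_of_finrank_eq inf_le_left (by omega)
    exact inf_eq_left.1 h11
  have h5 : W ≤ fx t := le_fx_of_one hpF ht hWt hW1
  have h6 : hB.perp W ⊓ fx x ≤ fx t := by
    apply le_fx_of_one hpF ht ((htI.inv_perp hB htj hWt).inf hfi)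
    have := hB.finrank_perp_inf hWn h3
    omega
  apply ht1
  have h7 : (⊤ : Submodule F (Fin 5 → F)) ≤ fx t := by
    rw [← (isCompl_fx_cm h.cast_ne hxr).sup_eq_top, ← hB.sup_perp_inf hWn h3]
    exact sup_le (sup_le h5 h6) h4
  exact LinearMap.ext fun u => mem_fx.1 (h7 trivial)

/-! ### `k = 4` -/

theorem four_rank (h : PN F p n q 4 r) {x : Module.End F (Fin 5 → F)} (hx : Isom (hermForm 5 F q) x) (hxr : x ^ r = 1)
    (hx1 : x ≠ 1) : finrank F (cm x) = 4 ∧ finrank F (fx x) = 1 := by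
  obtain ⟨h1, h2, h3⟩ := cm_rank h hx hxr hx1
  rw [h.ord_neg_four rfl] at h1
  omega

theorem four_ti (h : PN F p n q 4 r) {x : Module.End F (Fin 5 → F)} (hx : Isom (hermForm 5 F q) x) (hxr : x ^ r = 1)
    (hx1 : x ≠ 1) {W : Submodule F (Fin 5 → F)} (hW : Inv x W) (hWt : TI (hermForm 5 F q) W) : finrank F W ≠ 1 := by
  intro hW1
  obtain ⟨h1, h2⟩ := four_rank h hx hxr hx1
  have h3 := dvd_inf_cm h (d := 2) rfl hxr hW
  have h4 : finrank F ↥(W ⊓ cm x) ≤ finrank F W := Submodule.finrank_mono inf_le_left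
  have h5 := le_fx_of_inf_cm h hxr hW (by omega)
  have h6 : W = fx x := Submodule.eq_of_le_of_finrank_eq h5 (by omega)
  have h7 : W ≠ ⊥ := by
    rintro rfl
    rw [finrank_bot] at hW1
    omega
  obtain ⟨w, hw, hw0⟩ := W.exists_mem_ne_zero_of_ne_bot h7
  obtain ⟨v, hv, hwv⟩ := nd_fx h hx hxr w (h6 ▸ hw) hw0
  exact hwv (hWt w hw v (h6 ▸ hv))

theorem four_nd (h : PN F p n q 4 r) {x : Module.End F (Fin 5 → F)} (hx : Isom (hermForm 5 F q) x) (hxr : x ^ r = 1)
    (hx1 : x ≠ 1) {W : Submodule F (Fin 5 → F)} (hW : Inv x W) (hWn : Nd (hermForm 5 F q) W) : finrank F W ≠ 2 := by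
  intro hW2
  obtain ⟨h1, h2⟩ := four_rank h hx hxr hx1
  have h3 := dvd_inf_cm' h hx hxr hW hWn
  rw [h.ord_neg_four rfl] at h3
  have h4 : finrank F ↥(W ⊓ cm x) ≤ finrank F W := Submodule.finrank_mono inf_le_left
  have h5 := le_fx_of_inf_cm h hxr hW (by omega)
  have h6 := Submodule.finrank_mono h5
  omega

end Cfsg.Agent.H269.U5
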