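import Mathlib
import Cfsg.Agent.H269.U5.Geo
import Cfsg.Agent.H269.U5.Fld

/-!
# `PSU₅(q)` has no normal 2-covering: classes 2, 5 and 6 (helper269, for S2499)
-/

set_option autoImplicit false
set_option linter.style.haveILetI false
set_option linter.unusedSectionVars false

namespace Cfsg.Agent.H269.U5

open Cfsg Cfsg.Geo Module Cfsg.Agent.H951 Cfsg.Agent.H950
open scoped MatrixGroups Matrix

variable {F : Type*} [Field F] [Fintype F] {p n q k r : ℕ}

theorem pow_ne_one {G : Type*} [Group G] {x : G} {r m : ℕ} (hr : r.Prime) (hx : x ^ r = 1) (hx1 : x ≠ 1) (hm : ¬ r ∣ m) :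
    x ^ m ≠ 1 := by
  intro h
  apply hm
  have : Fact r.Prime := ⟨hr⟩
  rw [← orderOf_eq_prime hx hx1]
  exact orderOf_dvd_of_pow_eq_one h

/-- decompositions into lines -/
theorem no_dec (h : PN F p n q k r) {d : ℕ} (hd : k = 2 * d) (hd2 : 2 ≤ d) (h5 : 5 < r) {x : GL (Fin 5) F}
    (hx : x ^ r = 1) (hx1 : x ≠ 1) {D : Fin 5 → Submodule F (Fin 5 → F)} (hD : IsMDecomposition 1 D)
    (hxD : x ∈ decompositionStabilizer D) : False := by
  obtain ⟨σ, hσ⟩ := hxD
  have key : ∀ k i, (D i).map (Matrix.toLin' ((x ^ k : GL (Fin 5) F) : Matrix (Fin 5) (Fin 5) F)) = D ((σ ^ k) i) := by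
    intro k
    induction k with
    | zero => intro i; simp
    | succ k ih =>
      intro i
      rw [pow_succ', Units.val_mul, Matrix.toLin'_mul, Submodule.map_comp, ih, hσ, pow_succ', Equiv.Perm.mul_apply]
  have h120 : σ ^ 120 = 1 := by
    have h1 : σ ^ Fintype.card (Equiv.Perm (Fin 5)) = 1 := pow_card_eq_one
    rw [Fintype.card_perm, Fintype.card_fin] at h1
    exact h1
  have hr120 : ¬ r ∣ 120 := by
    intro h1
    have h2 : r ∣ Nat.factorial 5 := h1
    have := (h.pr.dvd_factorial).1 h2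
    omega
  have hy := pow_ne_one h.pr hx hx1 hr120
  set y := x ^ 120 with hyd
  have hyr : T y ^ r = 1 := by rw [← T_pow, hyd, ← pow_mul, mul_comm, pow_mul, hx, one_pow, T_one]
  have hle : ∀ i, D i ≤ fx (T y) := by
    intro i
    have h7 := key 120 i
    rw [h120, Equiv.Perm.one_apply] at h7
    have hinv : Inv (T y) (D i) := by
      intro v hv
      rw [← h7]
      exact Submodule.mem_map_of_mem hv
    have h3 := dvd_inf_cm h hd hyr hinv
    have h4 : finrank F ↥(D i ⊓ cm (T y)) ≤ finrank F (D i) := Submodule.finrank_mono inf_le_left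
    rw [hD.finrank_eq i] at h4
    refine le_fx_of_inf_cm h hyr hinv ?_
    rcases Nat.eq_zero_or_pos (finrank F ↥(D i ⊓ cm (T y))) with h6 | h6
    · exact h6
    · have := Nat.le_of_dvd h6 h3
      omega
  have h8 : (⊤ : Submodule F (Fin 5 → F)) ≤ fx (T y) := by
    rw [← hD.iSup_eq_top]
    exact iSup_le hle
  apply hy
  apply T_inj
  rw [T_one]
  exact LinearMap.ext fun u => mem_fx.1 (h8 trivial)

/-- subfields -/
theorem no_subfield (h : PN F p n q k r) (hk : 6 ≤ k) {x : GL (Fin 5) F} (hX : x ^ r = 1) (hX1 : x ≠ 1)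
    {F₀ : Subfield F} {l : ℕ} (hl : 2 ≤ l) (hc : Fintype.card F = Nat.card F₀ ^ l) {P : GL (Fin 5) F}
    (hx : x ∈ subfieldSubgroup F₀ P) : False := by
  have : Fact r.Prime := ⟨h.pr⟩
  have hn := h.n0
  obtain ⟨y, hy, hyx⟩ := hx
  rw [SetLike.mem_coe, Subgroup.mem_sup_of_normal_right] at hy
  obtain ⟨_, ⟨a, rfl⟩, z, hz, rfl⟩ := hy
  obtain ⟨c, hc'⟩ := (mem_scalars_iff z).1 hz
  have : Finite F₀ := inferInstance
  have : Fintype F₀ := Fintype.ofFinite F₀
  have hzN : z ^ (Fintype.card F - 1) = 1 := by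
    classical
    apply Units.ext
    rw [Units.val_pow_eq_pow_val, hc', smul_pow, one_pow, Units.val_one, ← Units.val_pow_eq_pow_val,
      ← Fintype.card_units, pow_card_eq_one, Units.val_one, one_smul]
  have hcomm : ∀ g : GL (Fin 5) F, g * z = z * g := by
    intro g
    apply Units.ext
    rw [Units.val_mul, Units.val_mul, hc']
    simp
  set A : GL (Fin 5) F := Matrix.GeneralLinearGroup.map (F₀.subtype : F₀ →+* F) a with hA
  have hAN : A ^ Nat.card (GL (Fin 5) F₀) = 1 := by rw [hA, ← map_pow, pow_card_eq_one', map_one]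
  set N := Nat.card (GL (Fin 5) F₀) * (Fintype.card F - 1) with hN
  have h1 : (A * z) ^ N = 1 := by
    rw [(show Commute A z from hcomm A).mul_pow, hN, pow_mul, hAN, one_pow, one_mul, mul_comm, pow_mul, hzN, one_pow]
  have h2 : x ^ N = 1 := by
    have h3 : P * (A * z) * P⁻¹ = x := hyx
    rw [← h3, conj_pow, h1, mul_one, mul_inv_cancel]
  have h3 : r ∣ N := by
    have h4 : orderOf x = r := orderOf_eq_prime hX hX1
    rw [← h4]; exact orderOf_dvd_of_pow_eq_one h2
  obtain ⟨s, hs⟩ : ∃ s, Nat.card F₀ = s := ⟨_, rfl⟩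
  have hcF : Fintype.card F = p ^ (2 * n) := by rw [h.cF, h.qp, ← pow_mul, mul_comm]
  rw [hs, hcF] at hc
  have hsp : ∃ j, s = p ^ j := by
    have h5 : s ∣ p ^ (2 * n) := by rw [hc]; exact dvd_pow_self s (by omega)
    obtain ⟨j, -, hj⟩ := (Nat.dvd_prime_pow h.pp).1 h5
    exact ⟨j, hj⟩
  obtain ⟨j, hj⟩ := hsp
  have hjl : j * l = 2 * n := by
    rw [hj, ← pow_mul] at hc
    exact (Nat.pow_right_injective h.pp.two_le hc).symm
  have hj0 : 0 < j := by
    rcases Nat.eq_zero_or_pos j with rfl | h5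
    · omega
    · exact h5
  have hjn : j ≤ n := by
    have : j * 2 ≤ j * l := Nat.mul_le_mul_left j hl
    omega
  have hnd : ∀ m : ℕ, 0 < m → m < 6 * n → ¬ r ∣ p ^ m - 1 := by
    intro m hm0 hm6 h1
    have h4 := Nat.le_of_dvd hm0 ((h.iff m).1 h1)
    have h5 : 6 * n ≤ k * n := Nat.mul_le_mul_right n hk
    omega
  rcases h.pr.dvd_mul.1 h3 with h4 | h4
  · rw [Matrix.card_GL_field, ← Nat.card_eq_fintype_card, hs] at h4
    obtain ⟨i, -, hi⟩ := (h.pr.prime.dvd_finsetProd_iff _).1 h4
    have h5 : s ^ 5 - s ^ (i : ℕ) = s ^ (i : ℕ) * (s ^ (5 - (i : ℕ)) - 1) := by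
      rw [Nat.mul_sub, mul_one, ← pow_add, Nat.add_sub_cancel' i.2.le]
    rw [h5] at hi
    rcases h.pr.dvd_mul.1 hi with h6 | h6
    · rw [hj, ← pow_mul] at h6
      exact h.rp (h.pr.dvd_of_dvd_pow h6)
    · rw [hj, ← pow_mul] at h6
      have h7 : 0 < 5 - (i : ℕ) := by have := i.2; omega
      refine hnd _ (Nat.mul_pos hj0 h7) ?_ h6
      calc j * (5 - (i : ℕ)) ≤ n * 5 := Nat.mul_le_mul hjn (by omega)
        _ < 6 * n := by omega
  · rw [hcF] at h4
    exact hnd _ (by omega) (by omega) h4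

/-- an automorphism of prime order at least 7 of a group of order 125 which is trivial on the centre, of order 5 -/
theorem eq_one_of_prime {R : Type*} [Group R] (hcard : Nat.card R = 125) (hcen : Nat.card (Subgroup.center R) = 5)
    (σ : MulAut R) {r : ℕ} (hr : r.Prime) (h7 : 7 ≤ r) (hσ : σ ^ r = 1) (hz : ∀ z ∈ Subgroup.center R, σ z = z) :
    σ = 1 := by
  classical
  have : Finite R := Nat.finite_of_card_ne_zero (by rw [hcard]; norm_num)
  have : Fintype R := Fintype.ofFinite R
  have : Fact r.Prime := ⟨hr⟩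
  let C : Subgroup R :=
    { carrier := {x | σ x = x}
      one_mem' := map_one σ
      mul_mem' := fun {a b} ha hb => by
        show σ (a * b) = a * b
        rw [map_mul, show σ a = a from ha, show σ b = b from hb]
      inv_mem' := fun {a} ha => by
        show σ a⁻¹ = a⁻¹
        rw [map_inv, show σ a = a from ha] }
  have hCle : Subgroup.center R ≤ C := hz
  have hC5 : 5 ∣ Nat.card C := hcen ▸ Subgroup.card_dvd_of_le hCle
  have hC125 : Nat.card C ∣ 125 := hcard ▸ Subgroup.card_subgroup_dvd_card C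
  have h1 : (show Function.End R from fun v => σ v) ^ r ^ 1 = 1 := by
    rw [pow_one]
    have : ∀ n : ℕ, (show Function.End R from fun v => σ v) ^ n = fun v => (σ ^ n) v := by
      intro n
      induction n with
      | zero => rfl
      | succ n ih =>
        rw [pow_succ, ih]
        funext v
        rw [pow_succ]
        rfl
    rw [this, hσ]
    rfl
  have h2 := Equiv.Perm.card_fixedPoints_modEq h1
  have h3 : Fintype.card (Function.fixedPoints (show Function.End R from fun v => σ v)) = Nat.card C := by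
    rw [← Nat.card_eq_fintype_card]
    rfl
  rw [h3, ← Nat.card_eq_fintype_card, hcard] at h2
  have h4 : Nat.card C ≤ 125 := Nat.le_of_dvd (by norm_num) hC125
  have h5 : r ∣ 125 - Nat.card C := (Nat.modEq_iff_dvd' h4).1 h2.symm
  have h6 : Nat.card C = 125 := by
    have h7' : Nat.card C ∈ Nat.divisors 125 := Nat.mem_divisors.2 ⟨hC125, by norm_num⟩
    rw [show Nat.divisors 125 = {1, 5, 25, 125} by decide +kernel] at h7'
    simp only [Finset.mem_insert, Finset.mem_singleton] at h7'
    rcases h7' with h8 | h8 | h8 | h8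
    · rw [h8] at hC5; omega
    · rw [h8] at h5
      have h9 : r ∣ Nat.factorial 5 := h5
      have := (hr.dvd_factorial).1 h9
      omega
    · rw [h8] at h5
      have h9 : r ∣ Nat.factorial 5 * 5 := Dvd.dvd.trans h5 ⟨6, by norm_num [Nat.factorial]⟩
      rcases hr.dvd_mul.1 h9 with h10 | h10
      · have := (hr.dvd_factorial).1 h10
        omega
      · have := Nat.le_of_dvd (by norm_num) h10
        omega
    · exact h8
  have h7 : C = ⊤ := by
    apply Subgroup.eq_top_of_card_eq
    rw [h6, hcard]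
  apply MulEquiv.ext
  intro x
  have : x ∈ C := by rw [h7]; trivial
  exact this

/-- conjugation on a normalised subgroup -/
noncomputable def cj (R : Subgroup (GL (Fin 5) F)) : ↥(subgroupNormalizer R) →* MulAut R where
  toFun g :=
    { toFun := fun r => ⟨g * r * (g : GL (Fin 5) F)⁻¹, (Subgroup.mem_normalizer_iff.1 g.2 r).1 r.2⟩
      invFun := fun r => ⟨(g : GL (Fin 5) F)⁻¹ * r * g, by
        have := (Subgroup.mem_normalizer_iff.1 ((subgroupNormalizer R).inv_mem g.2) r).1 r.2
        simpa using this⟩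
      left_inv := fun r => by apply Subtype.ext; simp [mul_assoc]
      right_inv := fun r => by apply Subtype.ext; simp [mul_assoc]
      map_mul' := fun r s => by apply Subtype.ext; simp [mul_assoc] }
  map_one' := by
    apply MulEquiv.ext
    intro r
    apply Subtype.ext
    show (1 : GL (Fin 5) F) * r * 1⁻¹ = r
    simp
  map_mul' g h := by
    apply MulEquiv.ext
    intro r
    apply Subtype.ext
    show ((g * h : GL (Fin 5) F)) * (r : GL (Fin 5) F) * ((g * h : GL (Fin 5) F))⁻¹ =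
      g * (h * r * (h : GL (Fin 5) F)⁻¹) * (g : GL (Fin 5) F)⁻¹
    simp [mul_assoc]

theorem scalar_of_comm {R : Subgroup (GL (Fin 5) F)} (hirr : ActsAbsolutelyIrreducibly (matrixSet R)) {g : GL (Fin 5) F}
    (h : ∀ r ∈ R, g * r = r * g) : ∃ c : F, (g : Matrix (Fin 5) (Fin 5) F) = c • (1 : Matrix (Fin 5) (Fin 5) F) := by
  apply hirr.2
  rintro _ ⟨r, hr, rfl⟩
  have := congrArg (fun z : GL (Fin 5) F => (z : Matrix (Fin 5) (Fin 5) F)) (h r hr)
  simpa using this

/-- normalisers of the groups of order 125 -/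
theorem symp_prime {R : Subgroup (GL (Fin 5) F)} (hirr : ActsAbsolutelyIrreducibly (matrixSet R))
    (hcard : Nat.card R = 125) (hcen : Nat.card (Subgroup.center R) = 5) {g : GL (Fin 5) F}
    (hg : g ∈ subgroupNormalizer R) {r : ℕ} (hr : r.Prime) (h7 : 7 ≤ r) (hgr : g ^ r = 1) :
    ∃ c : F, (g : Matrix (Fin 5) (Fin 5) F) = c • (1 : Matrix (Fin 5) (Fin 5) F) := by
  have h1 : cj R ⟨g, hg⟩ = 1 := by
    apply eq_one_of_prime hcard hcen _ hr h7
    · rw [← map_pow, show (⟨g, hg⟩ ^ r : ↥(subgroupNormalizer R)) = 1 from Subtype.ext hgr, map_one]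
    · intro z hz
      apply Subtype.ext
      obtain ⟨c, hc⟩ := scalar_of_comm hirr (g := z) (fun r hr => by
        have := Subgroup.mem_center_iff.1 hz ⟨r, hr⟩
        exact (congrArg Subtype.val this).symm)
      show g * (z : GL (Fin 5) F) * g⁻¹ = z
      have h2 : g * (z : GL (Fin 5) F) = z * g := by
        apply Units.ext
        rw [Units.val_mul, Units.val_mul, hc]
        simp
      rw [h2, mul_inv_cancel_right]
  apply scalar_of_comm hirr
  intro r hr
  have h2 := congrArg (fun γ : MulAut R => ((γ ⟨r, hr⟩ : R) : GL (Fin 5) F)) h1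
  have h3 : g * r * g⁻¹ = r := h2
  exact mul_inv_eq_iff_eq_mul.1 h3

/-- the elements of order `r` are not scalar -/
theorem no_scalar (h : PN F p n q k r) (hk : 3 ≤ k) {x : GL (Fin 5) F} (hX : x ^ r = 1) (hX1 : x ≠ 1)
    (hs : ∃ c : F, (x : Matrix (Fin 5) (Fin 5) F) = c • (1 : Matrix (Fin 5) (Fin 5) F)) : False := by
  obtain ⟨c, hc⟩ := hs
  have h1 : c ^ r = 1 := by
    have h2 := congrArg (fun z : GL (Fin 5) F => (z : Matrix (Fin 5) (Fin 5) F) 0 0) hX
    simp only [Units.val_pow_eq_pow_val, hc, _root_.smul_pow, one_pow, Units.val_one, Matrix.smul_apply,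
      Matrix.one_apply_eq, smul_eq_mul, mul_one] at h2
    exact h2
  have hc0 : c ≠ 0 := by
    rintro rfl
    rw [zero_pow h.pr.ne_zero] at h1
    exact zero_ne_one h1
  have h2 : c ^ (q ^ 2 - 1) = 1 := by rw [← h.cF]; exact FiniteField.pow_card_sub_one_eq_one c hc0
  have h3 : Nat.Coprime r (q ^ 2 - 1) := by
    rw [h.pr.coprime_iff_not_dvd, h.qp, ← pow_mul, h.iff]
    intro h4
    have h5 := Nat.le_of_dvd (by have := h.n0; omega) h4
    have h6 : 3 * n ≤ k * n := Nat.mul_le_mul_right n hk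
    have := h.n0
    omega
  have h4 : orderOf c ∣ Nat.gcd r (q ^ 2 - 1) := Nat.dvd_gcd (orderOf_dvd_of_pow_eq_one h1) (orderOf_dvd_of_pow_eq_one h2)
  rw [h3] at h4
  have h5 : c = 1 := orderOf_eq_one_iff.1 (Nat.dvd_one.1 h4)
  apply hX1
  apply Units.ext
  rw [hc, h5, one_smul, Units.val_one]

end Cfsg.Agent.H269.U5
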