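import Mathlib
import Cfsg.Agent.H948.UProd
import Cfsg.Agent.S0813
import Cfsg.Agent.S0815
import Cfsg.Prelude.Def_GeometricClasses

/-!
# `PSU₅(q)` has no normal 2-covering: the residual class (helper269, for S2499)

* `ord_dvd_aut` : in the residual class (any dimension) the order of an element without scalar powers divides the order of the
  automorphism group of the socle.
-/

set_option autoImplicit false
set_option linter.style.haveILetI false
set_option linter.unusedSectionVars false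

namespace Cfsg.Agent.H269.U5

open Cfsg Cfsg.Geo Matrix
open scoped MatrixGroups

section core

variable {ι : Type} [Fintype ι] [DecidableEq ι] {F : Type*} [Field F] {H P : Subgroup (GL ι F)}

theorem scalars_comm {s : GL ι F} (hs : s ∈ scalars ι F) (g : GL ι F) : g * s = s * g := by
  obtain ⟨c, hc⟩ := (mem_scalars_iff s).1 hs
  apply Units.ext
  rw [Units.val_mul, Units.val_mul, hc]
  simp

/-- the action of a residual group on its socle -/
theorem exists_act (hP : IsResidualCore H P) : ∃ φ : H →* MulAut (P ⧸ (scalars ι F).subgroupOf P),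
    ∀ h : H, φ h = 1 → (h : GL ι F) ∈ scalars ι F := by
  classical
  have hinv : ∀ {h : GL ι F}, h ∈ H → ∀ {y : GL ι F}, y ∈ P → h⁻¹ * y * h ∈ P := by
    intro h hh y hy
    have := hP.normal h⁻¹ (H.inv_mem hh) y hy
    rwa [inv_inv] at this
  let c : H → (P ≃* P) := fun h =>
    { toFun := fun y => ⟨h * y * (h : GL ι F)⁻¹, hP.normal h h.2 y y.2⟩
      invFun := fun y => ⟨(h : GL ι F)⁻¹ * y * h, hinv h.2 y.2⟩
      left_inv := fun y => by apply Subtype.ext; simp [mul_assoc]
      right_inv := fun y => by apply Subtype.ext; simp [mul_assoc]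
      map_mul' := fun y z => by apply Subtype.ext; simp [mul_assoc] }
  have hcmap : ∀ h : H, ((scalars ι F).subgroupOf P).map (c h : P ≃* P) = (scalars ι F).subgroupOf P := by
    intro h
    have key : ∀ y : P, (y : GL ι F) ∈ scalars ι F → c h y = y := by
      intro y hy
      apply Subtype.ext
      show (h : GL ι F) * y * (h : GL ι F)⁻¹ = y
      rw [scalars_comm hy, mul_inv_cancel_right]
    ext y
    constructor
    · rintro ⟨z, hz, rfl⟩
      have : c h z = z := key z (Subgroup.mem_subgroupOf.1 hz)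
      show c h z ∈ _
      rw [this]; exact hz
    · intro hy
      exact ⟨y, hy, key y (Subgroup.mem_subgroupOf.1 hy)⟩
  let φ : H →* MulAut (P ⧸ (scalars ι F).subgroupOf P) :=
    { toFun := fun h => QuotientGroup.congr _ _ (c h) (hcmap h)
      map_one' := by
        apply MulEquiv.ext
        intro y
        obtain ⟨y, rfl⟩ := QuotientGroup.mk_surjective y
        show ((c 1 y : P) : P ⧸ (scalars ι F).subgroupOf P) = (y : P ⧸ (scalars ι F).subgroupOf P)
        congr 1
        apply Subtype.ext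
        show ((1 : H) : GL ι F) * y * ((1 : H) : GL ι F)⁻¹ = y
        simp
      map_mul' := fun h k => by
        apply MulEquiv.ext
        intro y
        obtain ⟨y, rfl⟩ := QuotientGroup.mk_surjective y
        show ((c (h * k) y : P) : P ⧸ (scalars ι F).subgroupOf P) = ((c h (c k y) : P) : P ⧸ (scalars ι F).subgroupOf P)
        congr 1
        apply Subtype.ext
        show ((h * k : H) : GL ι F) * y * ((h * k : H) : GL ι F)⁻¹ =
          (h : GL ι F) * ((k : GL ι F) * y * (k : GL ι F)⁻¹) * (h : GL ι F)⁻¹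
        simp [mul_assoc] }
  refine ⟨φ, fun h h1 => ?_⟩
  apply hP.centralizer_scalar h h.2
  intro y hy
  have h2 : φ h (QuotientGroup.mk ⟨y, hy⟩ : P ⧸ (scalars ι F).subgroupOf P) =
      (QuotientGroup.mk ⟨y, hy⟩ : P ⧸ (scalars ι F).subgroupOf P) := by rw [h1]; rfl
  have h2' : (QuotientGroup.mk (c h ⟨y, hy⟩) : P ⧸ (scalars ι F).subgroupOf P) =
      (QuotientGroup.mk ⟨y, hy⟩ : P ⧸ (scalars ι F).subgroupOf P) := h2
  have h3 := QuotientGroup.eq.1 h2'.symm
  have h4 : (y : GL ι F)⁻¹ * (h * y * (h : GL ι F)⁻¹) ∈ scalars ι F := Subgroup.mem_subgroupOf.1 h3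
  have h5 : (h : GL ι F) * y * (h : GL ι F)⁻¹ * y⁻¹ =
      y * (y⁻¹ * (h * y * (h : GL ι F)⁻¹)) * y⁻¹ := by group
  rw [h5, scalars_comm h4, mul_inv_cancel_right]
  exact h4

/-- in the residual class the order of a subgroup without nontrivial scalars divides `|Aut (socle)|` -/
theorem card_dvd_aut (hP : IsResidualCore H P) {X : Subgroup (GL ι F)} (hX : X ≤ H)
    (hs : ∀ x ∈ X, x ∈ scalars ι F → x = 1) :
    Nat.card X ∣ Nat.card (MulAut (P ⧸ (scalars ι F).subgroupOf P)) := by
  obtain ⟨φ, hφ⟩ := exists_act hP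
  refine Subgroup.card_dvd_of_injective (φ.comp (Subgroup.inclusion hX)) ?_
  rw [injective_iff_map_eq_one]
  intro x hx
  exact Subtype.ext (hs x x.2 (hφ _ hx))

/-- in the residual class the order of an element without nontrivial scalar powers divides `|Aut (socle)|` -/
theorem ord_dvd_aut (hP : IsResidualCore H P) {x : GL ι F} (hx : x ∈ H)
    (hs : ∀ m : ℕ, x ^ m ∈ scalars ι F → x ^ m = 1) :
    orderOf x ∣ Nat.card (MulAut (P ⧸ (scalars ι F).subgroupOf P)) := by
  obtain ⟨φ, hφ⟩ := exists_act hP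
  refine dvd_trans ?_ (orderOf_dvd_natCard (φ ⟨x, hx⟩))
  rw [orderOf_dvd_iff_pow_eq_one]
  apply hs
  have h1 := hφ (⟨x, hx⟩ ^ orderOf (φ ⟨x, hx⟩)) (by rw [map_pow, pow_orderOf_eq_one])
  exact h1

end core

theorem card_aut_l211 : Nat.card (MulAut (Matrix.ProjectiveSpecialLinearGroup (Fin 2) (ZMod 11))) ∣ 13200 := by
  have : Fact (Nat.Prime 11) := ⟨by norm_num⟩
  rw [Cfsg.Agent.S0813.result (F := ZMod 11) 11 1 le_rfl (by rw [ZMod.card, pow_one]) 2 le_rfl (by norm_num)]
  rw [if_pos rfl, one_mul, one_mul]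
  have h2 : Nat.card (GL (Fin 2) (ZMod 11)) = 13200 := by
    rw [Matrix.card_GL_field]
    simp [Fin.prod_univ_two, ZMod.card]
  rw [← h2]
  exact Subgroup.card_quotient_dvd_card _

theorem card_aut_u42 {K : Type*} [Field K] [Fintype K] (hK : Fintype.card K = 4) :
    Nat.card (MulAut (Cfsg.PSU 4 K 2)) ∣ 51840 := by
  have : Fact (Nat.Prime 2) := ⟨Nat.prime_two⟩
  have hK' : Fintype.card K = 2 ^ 2 := by rw [hK]; norm_num
  rw [Cfsg.Agent.S0815.result (F := K) 2 1 le_rfl (by norm_num) hK' 4 (by norm_num) (by norm_num)]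
  have h2 : Nat.card (Cfsg.SU 4 K 2) = 25920 := by
    rw [Cfsg.Agent.H948.UProd.card_SU hK' (by norm_num)]
    simp [Finset.prod_range_succ, Cfsg.Agent.H948.UProd.ph, Nat.even_iff]
  have h3 : Nat.card (Cfsg.PSU 4 K 2) ∣ 25920 := by
    rw [← h2]
    exact Subgroup.card_quotient_dvd_card _
  have h4 : Nat.gcd 4 (2 + 1) * (2 * 1) = 2 := by decide
  rw [h4]
  exact (Nat.mul_dvd_mul_left 2 h3)

/-- the orders of the elements of the residual subgroups of `SU₅(q)` -/
theorem res_ord {F : Type*} [Field F] {H P : Subgroup (GL (Fin 5) F)} (hP : IsResidualCore H P)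
    (he : Nonempty ((P ⧸ (scalars (Fin 5) F).subgroupOf P) ≃* Matrix.ProjectiveSpecialLinearGroup (Fin 2) (ZMod 11)) ∨
      ∃ (K : Type) (_ : Field K) (_ : Fintype K), Fintype.card K = 4 ∧
        Nonempty ((P ⧸ (scalars (Fin 5) F).subgroupOf P) ≃* Cfsg.PSU 4 K 2))
    {x : GL (Fin 5) F} (hx : x ∈ H) (hs : ∀ m : ℕ, x ^ m ∈ scalars (Fin 5) F → x ^ m = 1) :
    orderOf x ∣ 13200 ∨ orderOf x ∣ 51840 := by
  have h1 := ord_dvd_aut hP hx hs
  rcases he with ⟨⟨e⟩⟩ | ⟨K, _, _, hK, ⟨e⟩⟩
  · left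
    rw [Nat.card_congr (MulAut.congr e).toEquiv] at h1
    exact h1.trans card_aut_l211
  · right
    rw [Nat.card_congr (MulAut.congr e).toEquiv] at h1
    exact h1.trans (card_aut_u42 hK)

/-- the orders of the subgroups without scalars of the residual subgroups of `SU₅(q)` -/
theorem res_card {F : Type*} [Field F] {H P X : Subgroup (GL (Fin 5) F)} (hP : IsResidualCore H P)
    (he : Nonempty ((P ⧸ (scalars (Fin 5) F).subgroupOf P) ≃* Matrix.ProjectiveSpecialLinearGroup (Fin 2) (ZMod 11)) ∨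
      ∃ (K : Type) (_ : Field K) (_ : Fintype K), Fintype.card K = 4 ∧
        Nonempty ((P ⧸ (scalars (Fin 5) F).subgroupOf P) ≃* Cfsg.PSU 4 K 2))
    (hX : X ≤ H) (hs : ∀ x ∈ X, x ∈ scalars (Fin 5) F → x = 1) :
    Nat.card X ∣ 13200 ∨ Nat.card X ∣ 51840 := by
  have h1 := card_dvd_aut hP hX hs
  rcases he with ⟨⟨e⟩⟩ | ⟨K, _, _, hK, ⟨e⟩⟩
  · left
    rw [Nat.card_congr (MulAut.congr e).toEquiv] at h1
    exact h1.trans card_aut_l211
  · right
    rw [Nat.card_congr (MulAut.congr e).toEquiv] at h1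
    exact h1.trans (card_aut_u42 hK)

end Cfsg.Agent.H269.U5
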