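import Mathlib
import Cfsg.Agent.S5796
import Cfsg.Agent.S5797
import Cfsg.Agent.H269.U5.Kill
import Cfsg.Agent.H269.U5.Res

/-!
# `PSU₅(q)` has no normal 2-covering: the maximal subgroups over the two witnesses (helper269, for S2499)
-/

set_option autoImplicit false
set_option linter.style.haveILetI false
set_option linter.unusedSectionVars false

namespace Cfsg.Agent.H269.U5

open Cfsg Cfsg.Geo Module Cfsg.Agent.H951 Cfsg.Agent.H950 Cfsg.Agent.H918
open scoped MatrixGroups Matrix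

variable {F : Type*} [Field F] [Fintype F] {p n q k r : ℕ}

theorem isMaximalIn_of_coatom {S G : Type*} [Group S] [Group G]
    (ι : S →* G) (hι : Function.Injective ι) {M : Subgroup S} (hM : IsCoatom M) :
    IsMaximalIn ι.range (M.map ι) := by
  refine ⟨lt_of_le_of_ne ?_ ?_, ?_⟩
  · rw [MonoidHom.range_eq_map]; exact Subgroup.map_mono le_top
  · intro he
    rw [MonoidHom.range_eq_map] at he
    exact hM.1 (Subgroup.map_injective hι he)
  · intro K hHK hK
    have hKe : (K.comap ι).map ι = K := Subgroup.map_comap_eq_self hK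
    have h1 : M ≤ K.comap ι := fun s hs => hHK ⟨s, hs, rfl⟩
    rcases hM.le_iff.1 h1 with h4 | h4
    · right
      rw [← hKe, h4, MonoidHom.range_eq_map]
    · left
      rw [← hKe, h4]

/-- the maximal subgroups of the abstract group -/
theorem max_of_coatom {M : Subgroup (Cfsg.SU 5 F q)} (hM : IsCoatom M) :
    IsMaximalIn (SUg 5 F q) (M.map (suHom 5 F q)) := by
  have := isMaximalIn_of_coatom (suHom 5 F q) suHom_injective hM
  rwa [range_suHom] at this

theorem inv_of_stab {W : Submodule F (Fin 5 → F)} {g : GL (Fin 5) F} (hg : g ∈ subspaceStabilizer W) : Inv (T g) W := by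
  intro v hv
  rw [T_apply]
  exact (hg v).1 hv

theorem nd_of {W : Submodule F (Fin 5 → F)} (hW : IsNondegenerateOn (hermForm 5 F q) W) : Nd (hermForm 5 F q) W :=
  fun u hu h0 => (hW u hu h0).2

/-- scalar powers -/
theorem no_scalar_pow (h : PN F p n q k r) (hk : 3 ≤ k) {x : GL (Fin 5) F} {m : ℕ} (hx : x ^ r ^ m = 1) (j : ℕ)
    (hj : x ^ j ∈ scalars (Fin 5) F) : x ^ j = 1 := by
  by_contra hne
  have h1 : orderOf (x ^ j) ∣ r ^ m := by
    apply orderOf_dvd_of_pow_eq_one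
    rw [← pow_mul, mul_comm, pow_mul, hx, one_pow]
  obtain ⟨i, hi, hio⟩ := (Nat.dvd_prime_pow h.pr).1 h1
  rcases Nat.eq_zero_or_pos i with h0 | h0
  · rw [h0, pow_zero] at hio
    exact hne (orderOf_eq_one_iff.1 hio)
  · obtain ⟨i', rfl⟩ : ∃ i', i = i' + 1 := ⟨i - 1, by omega⟩
    have h2 : orderOf ((x ^ j) ^ r ^ i') = r := by
      rw [orderOf_pow_of_dvd (pow_ne_zero _ h.pr.ne_zero) (by rw [hio, pow_succ]; exact dvd_mul_right _ _), hio, pow_succ,
        Nat.mul_div_cancel_left _ (pow_pos h.pr.pos _)]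
    refine no_scalar h hk (x := (x ^ j) ^ r ^ i') ?_ ?_ ?_
    · have h3 := pow_orderOf_eq_one ((x ^ j) ^ r ^ i')
      rwa [h2] at h3
    · intro h3
      rw [h3, orderOf_one] at h2
      exact h.pr.one_lt.ne h2
    · obtain ⟨c, hc⟩ := (mem_scalars_iff _).1 (Subgroup.pow_mem _ hj (r ^ i'))
      exact ⟨c, hc⟩

/-- the geometric cases -/
theorem geom (h : PN F p n q k r) {d : ℕ} (hd : k = 2 * d) (hk : 6 ≤ k) {H : Subgroup (GL (Fin 5) F)}
    (hH : IsMaximalIn (SUg 5 F q) H) {s : GL (Fin 5) F} (hsH : s ∈ H) (hs : s ^ r = 1) (hs1 : s ≠ 1) :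
    (∃ W : Submodule F (Fin 5 → F), W ≠ ⊥ ∧ TI (hermForm 5 F q) W ∧ H ≤ subspaceStabilizer W) ∨
    (∃ W : Submodule F (Fin 5 → F), W ≠ ⊥ ∧ Nd (hermForm 5 F q) W ∧ 2 * finrank F W < 5 ∧ H ≤ subspaceStabilizer W) ∨
    (3 ≤ q ∧ ∃ K : Subalgebra F (Matrix (Fin 5) (Fin 5) F), IsFieldSubalgebra 5 K ∧ H ≤ subalgebraNormalizer K) ∨
    InUnitaryResidualClass H := by
  have hger := h.ger
  rcases Cfsg.Agent.S5796.result q h.cF H hH with ⟨W, hW0, hWs, he⟩ | ⟨W, hW0, hWn, hW5, he⟩ | ⟨D, hD, he⟩ |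
    ⟨hq3, K, hK, -, he⟩ | ⟨F₀, l, P, hl, hlo, hc, -, he⟩ | ⟨-, F₀, P, hc, -, he⟩ |
    ⟨p', R, hp', -, -, -, hirr, -, h125, h5, he⟩ | hres
  · exact Or.inl ⟨W, hW0, hWs, by rw [he]; exact inf_le_left⟩
  · exact Or.inr (Or.inl ⟨W, hW0, nd_of hWn, hW5, by rw [he]; exact inf_le_left⟩)
  · exfalso
    rw [he] at hsH
    exact no_dec h hd (by omega) (by omega) hs hs1 hD.decomp hsH.1
  · exact Or.inr (Or.inr (Or.inl ⟨hq3, K, hK, by rw [he]; exact inf_le_left⟩))
  · exfalso
    rw [he] at hsH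
    exact no_subfield h hk hs hs1 hl.two_le hc hsH.1
  · exfalso
    rw [he] at hsH
    exact no_subfield h hk hs hs1 le_rfl hc hsH.1
  · exfalso
    rw [he] at hsH
    exact no_scalar h (by omega) hs hs1 (symp_prime hirr h125 h5 hsH.1 h.pr (by omega) hs)
  · exact Or.inr (Or.inr (Or.inr hres))

theorem res_kill (h : PN F p n q k r) (hk : 3 ≤ k) {H : Subgroup (GL (Fin 5) F)}
    (hH : IsMaximalIn (SUg 5 F q) H) (hres : InUnitaryResidualClass H) {x : GL (Fin 5) F} (hxH : x ∈ H) {m : ℕ}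
    (hx : x ^ r ^ m = 1) (h1 : ¬ orderOf x ∣ 13200) (h2 : ¬ orderOf x ∣ 51840) : False := by
  obtain ⟨P, hP, -, hcases⟩ := Cfsg.Agent.S5797.result q h.cF H hH hres
  have h3 := res_ord hP (hcases.imp (fun h => h.1) (fun h => h.1)) hxH (fun j hj => no_scalar_pow h hk hx j hj)
  exact h3.elim h1 h2

/-- **the first witness**: only the normaliser of a field of degree 5 -/
theorem max_ten (h : PN F p n q 10 r) {H : Subgroup (GL (Fin 5) F)} (hH : IsMaximalIn (SUg 5 F q) H)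
    {x : GL (Fin 5) F} (hxH : x ∈ H) {m : ℕ} (hxo : orderOf x = r ^ (m + 1)) (h1 : ¬ orderOf x ∣ 13200)
    (h2 : ¬ orderOf x ∣ 51840) :
    ∃ K : Subalgebra F (Matrix (Fin 5) (Fin 5) F), IsFieldSubalgebra 5 K ∧ H ≤ subalgebraNormalizer K := by
  have hx : x ^ r ^ (m + 1) = 1 := by rw [← hxo]; exact pow_orderOf_eq_one x
  have hso : orderOf (x ^ r ^ m) = r := by
    rw [orderOf_pow_of_dvd (pow_ne_zero _ h.pr.ne_zero) (by rw [hxo, pow_succ]; exact dvd_mul_right _ _), hxo, pow_succ,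
      Nat.mul_div_cancel_left _ (pow_pos h.pr.pos _)]
  set s := x ^ r ^ m with hsd
  have hs : s ^ r = 1 := by
    have h3 := pow_orderOf_eq_one s
    rwa [hso] at h3
  have hs1 : s ≠ 1 := by
    intro h3
    rw [h3, orderOf_one] at hso
    exact h.pr.one_lt.ne hso
  have hsH : s ∈ H := H.pow_mem hxH _
  have hsG : s ∈ SUg 5 F q := hH.1.le hsH
  have hTs : T s ^ r = 1 := by rw [← T_pow, hs, T_one]
  have hTs1 : T s ≠ 1 := fun h3 => hs1 (T_inj (by rw [h3, T_one]))
  rcases geom h (d := 5) rfl (by norm_num) hH hsH hs hs1 with ⟨W, hW0, hWs, hle⟩ | ⟨W, hW0, -, hW5, hle⟩ | ⟨-, h3⟩ | hres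
  · exfalso
    rcases ten h (isom_T hsG.1) hTs hTs1 (inv_of_stab (hle hsH)) with h4 | h4
    · exact hW0 h4
    · have h5 := (frm_herm h.cF 5).two_mul_finrank_le (nd_top h.cF 5) le_top hWs
      rw [h4, finrank_top, finrank_V] at h5
      omega
  · exfalso
    rcases ten h (isom_T hsG.1) hTs hTs1 (inv_of_stab (hle hsH)) with h4 | h4
    · exact hW0 h4
    · rw [h4, finrank_top, finrank_V] at hW5
      omega
  · exact h3
  · exact absurd (res_kill h (by norm_num) hH hres hxH hx h1 h2) id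

/-- **the second witness**: only stabilisers of totally isotropic lines and of nondegenerate planes -/
theorem max_six (h : PN F p n q 6 r) {H : Subgroup (GL (Fin 5) F)} (hH : IsMaximalIn (SUg 5 F q) H)
    {x : GL (Fin 5) F} (hxH : x ∈ H) (hxo : orderOf x = r * p) :
    (∃ W : Submodule F (Fin 5 → F), finrank F W = 1 ∧ TI (hermForm 5 F q) W ∧ H ≤ subspaceStabilizer W) ∨
    (∃ W : Submodule F (Fin 5 → F), finrank F W = 2 ∧ Nd (hermForm 5 F q) W ∧ H ≤ subspaceStabilizer W) := by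
  have hger := h.ger
  have hso : orderOf (x ^ p) = r := by
    rw [orderOf_pow_of_dvd h.pp.ne_zero (by rw [hxo]; exact dvd_mul_left _ _), hxo, Nat.mul_div_cancel _ h.pp.pos]
  have hto : orderOf (x ^ r) = p := by
    rw [orderOf_pow_of_dvd h.pr.ne_zero (by rw [hxo]; exact dvd_mul_right _ _), hxo, Nat.mul_div_cancel_left _ h.pr.pos]
  have hcomm : x ^ p * x ^ r = x ^ r * x ^ p := by rw [← pow_add, ← pow_add, add_comm]
  set s := x ^ p with hsd
  set t := x ^ r with htd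
  have hs : s ^ r = 1 := by
    have h3 := pow_orderOf_eq_one s
    rwa [hso] at h3
  have hs1 : s ≠ 1 := by
    intro h3
    rw [h3, orderOf_one] at hso
    exact h.pr.one_lt.ne hso
  have ht : t ^ p = 1 := by
    have h3 := pow_orderOf_eq_one t
    rwa [hto] at h3
  have ht1 : t ≠ 1 := by
    intro h3
    rw [h3, orderOf_one] at hto
    exact h.pp.one_lt.ne hto
  have hsH : s ∈ H := H.pow_mem hxH _
  have htH : t ∈ H := H.pow_mem hxH _
  have hsG : s ∈ SUg 5 F q := hH.1.le hsH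
  have htG : t ∈ SUg 5 F q := hH.1.le htH
  have hTs : T s ^ r = 1 := by rw [← T_pow, hs, T_one]
  have hTs1 : T s ≠ 1 := fun h3 => hs1 (T_inj (by rw [h3, T_one]))
  have hTt : T t ^ p = 1 := by rw [← T_pow, ht, T_one]
  have hTt1 : T t ≠ 1 := fun h3 => ht1 (T_inj (by rw [h3, T_one]))
  have hTc : T s * T t = T t * T s := by rw [← T_mul, ← T_mul, hcomm]
  have hr6 : 6 ∣ r - 1 := (dvd_mul_right 6 n).trans h.dv
  have hrp := h.pr.two_le
  have hr11 : r ≠ 11 := by rintro rfl; omega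
  rcases geom h (d := 3) rfl (by norm_num) hH hsH hs hs1 with ⟨W, hW0, hWs, hle⟩ | ⟨W, hW0, hWn, hW5, hle⟩ |
    ⟨-, K, hK, hle⟩ | hres
  · exact Or.inl ⟨W, six_ti h (isom_T hsG.1) hTs hTs1 (inv_of_stab (hle hsH)) hWs hW0, hWs, hle⟩
  · right
    refine ⟨W, ?_, hWn, hle⟩
    have h3 := six_nd h (isom_T hsG.1) hTs hTs1 (isom_T htG.1) (T_injective t) hTt hTt1 hTc
      (inv_of_stab (hle hsH)) (inv_of_stab (hle htH)) hWn
    have h4 : finrank F W ≠ 0 := fun h5 => hW0 (Submodule.finrank_eq_zero.1 h5)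
    omega
  · exfalso
    obtain ⟨-, h4⟩ := six_rank h (isom_T hsG.1) hTs hTs1
    have h5 : fx (T s) ≠ ⊥ := by
      intro h6
      rw [h6, finrank_bot] at h4
      omega
    obtain ⟨v, hv, hv0⟩ := (fx (T s)).exists_mem_ne_zero_of_ne_bot h5
    have h6 := mem_fx.1 hv
    rw [T_apply] at h6
    exact hs1 (no_fix hK (hle hsH) h.pr (by omega) hs hv0 h6)
  · exfalso
    refine res_kill h (by norm_num) hH hres hsH (m := 1) (by rw [pow_one]; exact hs) ?_ ?_
    · rw [hso]
      intro h3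
      have h4 : r ∣ 5 ^ 2 * (11 * (2 ^ 4 * 3)) := by norm_num; exact h3
      rcases h.pr.dvd_mul.1 h4 with h5 | h5
      · have := Nat.le_of_dvd (by norm_num) (h.pr.dvd_of_dvd_pow h5); omega
      · rcases h.pr.dvd_mul.1 h5 with h6 | h6
        · exact hr11 ((Nat.prime_dvd_prime_iff_eq h.pr (by norm_num)).1 h6)
        · rcases h.pr.dvd_mul.1 h6 with h7 | h7
          · have := Nat.le_of_dvd (by norm_num) (h.pr.dvd_of_dvd_pow h7); omega
          · have := Nat.le_of_dvd (by norm_num) h7; omega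
    · rw [hso]
      intro h3
      have h4 : r ∣ 5 * (2 ^ 7 * 3 ^ 4) := by norm_num; exact h3
      rcases h.pr.dvd_mul.1 h4 with h5 | h5
      · have := Nat.le_of_dvd (by norm_num) h5; omega
      · rcases h.pr.dvd_mul.1 h5 with h6 | h6
        · have := Nat.le_of_dvd (by norm_num) (h.pr.dvd_of_dvd_pow h6); omega
        · have := Nat.le_of_dvd (by norm_num) (h.pr.dvd_of_dvd_pow h6); omega

/-! ### the third element -/

/-- elements of order `r`, `k = 4`, or twice this order -/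
theorem third (h : PN F p n q 4 r) {x : GL (Fin 5) F} (hxG : x ∈ SUg 5 F q) (hx : (orderOf x = r ∧ r ≠ 5) ∨
    orderOf x = r * 2) :
    (∀ W : Submodule F (Fin 5 → F), TI (hermForm 5 F q) W → x ∈ subspaceStabilizer W → finrank F W ≠ 1) ∧
    (∀ W : Submodule F (Fin 5 → F), Nd (hermForm 5 F q) W → x ∈ subspaceStabilizer W → finrank F W ≠ 2) ∧
    (∀ K : Subalgebra F (Matrix (Fin 5) (Fin 5) F), IsFieldSubalgebra 5 K → x ∉ subalgebraNormalizer K) := by
  have hger := h.ger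
  have hco : Nat.Coprime r 2 := (Nat.coprime_primes h.pr Nat.prime_two).2 (by omega)
  have hso : orderOf (x ^ 2) = r := by
    rcases hx with ⟨hx, -⟩ | hx
    · rw [Nat.Coprime.orderOf_pow (by rw [hx]; exact hco), hx]
    · rw [orderOf_pow_of_dvd (by norm_num) (by rw [hx]; exact dvd_mul_left _ _), hx, Nat.mul_div_cancel _ (by norm_num)]
  set s := x ^ 2 with hsd
  have hs : s ^ r = 1 := by
    have h3 := pow_orderOf_eq_one s
    rwa [hso] at h3
  have hs1 : s ≠ 1 := by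
    intro h3
    rw [h3, orderOf_one] at hso
    exact h.pr.one_lt.ne hso
  have hsG : s ∈ SUg 5 F q := Subgroup.pow_mem _ hxG _
  have hTs : T s ^ r = 1 := by rw [← T_pow, hs, T_one]
  have hTs1 : T s ≠ 1 := fun h3 => hs1 (T_inj (by rw [h3, T_one]))
  refine ⟨fun W hW hxW => ?_, fun W hW hxW => ?_, fun K hK hxK => ?_⟩
  · exact four_ti h (isom_T hsG.1) hTs hTs1 (inv_of_stab (Subgroup.pow_mem _ hxW _)) hW
  · exact four_nd h (isom_T hsG.1) hTs hTs1 (inv_of_stab (Subgroup.pow_mem _ hxW _)) hW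
  · rcases hx with ⟨hx, hr5⟩ | hx
    · obtain ⟨-, h4⟩ := four_rank h (isom_T hsG.1) hTs hTs1
      have h5 : fx (T s) ≠ ⊥ := by
        intro h6
        rw [h6, finrank_bot] at h4
        omega
      obtain ⟨v, hv, hv0⟩ := (fx (T s)).exists_mem_ne_zero_of_ne_bot h5
      have h6 := mem_fx.1 hv
      rw [T_apply] at h6
      exact hs1 (no_fix hK (Subgroup.pow_mem _ hxK _) h.pr hr5 hs hv0 h6)
    · have hzo : orderOf (x ^ r) = 2 := by
        rw [orderOf_pow_of_dvd h.pr.ne_zero (by rw [hx]; exact dvd_mul_right _ _), hx, Nat.mul_div_cancel_left _ h.pr.pos]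
      have hz : (x ^ r) ^ 2 = 1 := by
        have h3 := pow_orderOf_eq_one (x ^ r)
        rwa [hzo] at h3
      have h3 := no_invol hK (Subgroup.pow_mem _ hxK r) hz (mem_SUg.1 (Subgroup.pow_mem _ hxG r)).2
      rw [h3, orderOf_one] at hzo
      omega

end Cfsg.Agent.H269.U5
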