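import Mathlib
import Cfsg.Agent.H948.UProd
import Cfsg.Agent.LieExceptional.CyclicSylow
import Cfsg.Agent.H269.U5.Geo

/-!
# `PSU₅(q)` has no normal 2-covering: the witnesses (helper269, for S2499)
-/

set_option autoImplicit false
set_option linter.style.haveILetI false
set_option linter.unusedSectionVars false

namespace Cfsg.Agent.H269.U5

open Cfsg Module Cfsg.Agent.H951 Cfsg.Agent.H950 Cfsg.Agent.H918
open Cfsg.Agent.LieClassical.HermBasic Cfsg.Agent.ClassicalGeometry.UnitTransv
open scoped MatrixGroups Matrix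

variable {F : Type*} [Field F] [Fintype F] {p n q k r : ℕ}

theorem orderOf_suHom (x : Cfsg.SU 5 F q) : orderOf (suHom 5 F q x) = orderOf x :=
  orderOf_injective _ suHom_injective x

/-- `r` divides `|SU₅(q)|` -/
theorem dvd_SU (h : PN F p n q k r) {d : ℕ} (hk : k = 2 * (d + 2)) (hd : d < 4) (hk4 : d = 0 ∨ Odd (d + 2)) :
    r ∣ Nat.card (Cfsg.SU 5 F q) := by
  have hq := h.q2
  have h1 : r ∣ q ^ k - 1 := by
    rw [h.qp, ← pow_mul, h.iff, mul_comm]
  rcases hk4 with rfl | hodd
  · -- `k = 4`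
    refine Cfsg.Agent.H948.UProd.dvd_card_SU h.cF (m := 5) (i := 3) (by norm_num) (by norm_num) ?_
    rw [Cfsg.Agent.H948.UProd.ph, if_neg (by decide)]
    rw [hk] at h1
    exact h1
  · refine Cfsg.Agent.H948.UProd.dvd_card_SU h.cF (m := 5) (i := d + 1) (by norm_num) (by omega) ?_
    have he : Even (d + 1) := by
      rcases Nat.even_or_odd (d + 1) with h2 | h2
      · exact h2
      · exfalso
        rw [Nat.odd_iff] at h2 hodd
        omega
    rw [Cfsg.Agent.H948.UProd.ph, if_pos he]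
    have h3 : q ^ k - 1 = (q ^ (d + 2) + 1) * (q ^ (d + 2) - 1) := by
      have := Nat.sq_sub_sq (q ^ (d + 2)) 1
      rw [one_pow, ← pow_mul] at this
      rw [hk, mul_comm 2, this]
    rw [h3] at h1
    refine (h.pr.dvd_mul.1 h1).resolve_right fun h4 => ?_
    rw [h.qp, ← pow_mul, h.iff, mul_comm n] at h4
    have h5 := (Nat.mul_dvd_mul_iff_right h.n0).1 h4
    have := Nat.le_of_dvd (by omega) h5
    omega

theorem exists_ord (h : PN F p n q k r) {d : ℕ} (hk : k = 2 * (d + 2)) (hd : d < 4) (hk4 : d = 0 ∨ Odd (d + 2)) :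
    ∃ x : Cfsg.SU 5 F q, orderOf x = r := by
  have : Fact r.Prime := ⟨h.pr⟩
  exact exists_prime_orderOf_dvd_card' r (dvd_SU h hk hd hk4)

theorem ne_one_of_order {G : Type*} [Group G] {x : G} {r : ℕ} (hr : r.Prime) (hx : orderOf x = r) : x ≠ 1 := by
  rintro rfl
  rw [orderOf_one] at hx
  exact hr.one_lt.ne hx

theorem T_suHom (x : Cfsg.SU 5 F q) (v : Fin 5 → F) : T (suHom 5 F q x) v = act x v := by
  rw [T_apply]; rfl

theorem T_facts (hr : r.Prime) {x : Cfsg.SU 5 F q} (hx : orderOf x = r) :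
    Isom (hermForm 5 F q) (T (suHom 5 F q x)) ∧ T (suHom 5 F q x) ^ r = 1 ∧ T (suHom 5 F q x) ≠ 1 := by
  refine ⟨isom_T (suHom_mem x).1, ?_, ?_⟩
  · rw [← T_pow, ← map_pow, ← hx, pow_orderOf_eq_one, map_one, T_one]
  · intro h1
    have h2 : suHom 5 F q x = 1 := T_inj (by rw [h1, T_one])
    rw [← orderOf_suHom, h2, orderOf_one] at hx
    exact hr.one_lt.ne hx

theorem act_utv_pow (hF : Fintype.card F = q ^ 2) {v : Fin 5 → F} {c : F} (hv : hermForm 5 F q v v = 0)
    (hc : c + c ^ q = 0) (m : ℕ) (x : Fin 5 → F) :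
    act (utv hF v c hv hc ^ m) x = x + (m * (c * hermForm 5 F q x v) : F) • v := by
  induction m with
  | zero => rw [pow_zero, act_one, Nat.cast_zero, zero_mul, zero_smul, add_zero]
  | succ m ih =>
    rw [pow_succ', act_mul, ih, act_utv, herm_add_left, herm_smul_left, hv, mul_zero, add_zero, add_assoc, ← add_smul]
    congr 2
    push_cast
    ring

/-- **the second witness** -/
theorem exists_B (h : PN F p n q 6 r) [CharP F p] : ∃ x : Cfsg.SU 5 F q, orderOf x = r * p := by
  have hF := h.cF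
  obtain ⟨s, hs⟩ := exists_ord h (d := 1) rfl (by norm_num) (Or.inr (by decide))
  obtain ⟨hI, hr1, hne⟩ := T_facts h.pr hs
  obtain ⟨-, h2⟩ := six_rank h hI hr1 hne
  obtain ⟨U, hU, hUt, hU1⟩ := exists_ti_plain hF (nd_fx h hI hr1) (k := 1) (by omega)
  have hU0 : U ≠ ⊥ := by
    rintro rfl
    rw [finrank_bot] at hU1
    omega
  obtain ⟨v, hvU, hv0⟩ := U.exists_mem_ne_zero_of_ne_bot hU0
  have hv := hUt v hvU v hvU
  have hsv : act s v = v := by
    have := mem_fx.1 (hU hvU)
    rwa [T_suHom] at this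
  obtain ⟨c, hc0, hc⟩ := exists_trace_zero_ne hF
  set t := utv hF v c hv hc with ht
  have htp : t ^ p = 1 := by
    apply ext_act
    intro x
    rw [ht, act_utv_pow, CharP.cast_eq_zero, zero_mul, zero_smul, add_zero, act_one]
  have ht1 : t ≠ 1 := by
    intro h1
    obtain ⟨x, hx⟩ := exists_herm_ne_zero hF hv0
    have h3 := act_utv hF hv hc x
    rw [← ht, h1, act_one] at h3
    have h4 : (c * hermForm 5 F q x v) • v = 0 := by
      have := congrArg (fun z => z - x) h3
      simpa using this.symm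
    rcases smul_eq_zero.1 h4 with h5 | h5
    · rcases mul_eq_zero.1 h5 with h6 | h6
      · exact hc0 h6
      · exact hx (herm_eq_zero_swap hF h6)
    · exact hv0 h5
  have hpf : Fact p.Prime := ⟨h.pp⟩
  have hto : orderOf t = p := orderOf_eq_prime htp ht1
  have hcomm : Commute s t := by
    show s * t = t * s
    apply ext_act
    intro x
    rw [act_mul, act_mul, ht, act_utv, act_utv, act_add, act_smul, hsv]
    congr 2
    conv_rhs => rw [← hsv, herm_act]
  refine ⟨s * t, ?_⟩
  have hco : Nat.Coprime (orderOf s) (orderOf t) := by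
    rw [hs, hto]
    exact (Nat.coprime_primes h.pr h.pp).2 (fun h1 => h.rp (dvd_of_eq h1))
  rw [hcomm.orderOf_mul_eq_mul_orderOf_of_coprime hco, hs, hto]

/-- **the third element**, `q` odd -/
theorem exists_C (h : PN F p n q 4 r) [CharP F p] (hp2 : p ≠ 2) : ∃ x : Cfsg.SU 5 F q, orderOf x = r * 2 := by
  have hF := h.cF
  have h2F : (2 : F) ≠ 0 := by
    intro h2
    have h3 : ((2 : ℕ) : F) = 0 := by exact_mod_cast h2
    have h4 := (CharP.cast_eq_zero_iff F p 2).1 h3
    exact hp2 ((Nat.prime_dvd_prime_iff_eq h.pp Nat.prime_two).1 h4)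
  obtain ⟨s, hs⟩ := exists_ord h (d := 0) rfl (by norm_num) (Or.inl rfl)
  obtain ⟨hI, hr1, hne⟩ := T_facts h.pr hs
  obtain ⟨-, h2⟩ := four_rank h hI hr1 hne
  have hn0 : fx (T (suHom 5 F q s)) ≠ ⊥ := by
    intro h1
    rw [h1, finrank_bot] at h2
    omega
  obtain ⟨e, he, he0⟩ := (fx (T (suHom 5 F q s))).exists_mem_ne_zero_of_ne_bot hn0
  have hse : act s e = e := by
    have := mem_fx.1 he
    rwa [T_suHom] at this
  have hee : hermForm 5 F q e e ≠ 0 := by
    intro h1
    obtain ⟨w, hw, hew⟩ := nd_fx h hI hr1 e he he0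
    obtain ⟨a, ha⟩ := (finrank_eq_one_iff_of_nonzero' (⟨e, he⟩ : fx (T (suHom 5 F q s)))
      (fun h3 => he0 (congrArg Subtype.val h3))).1 h2 ⟨w, hw⟩
    have ha' : a • e = w := congrArg Subtype.val ha
    rw [← ha', herm_smul_right, h1, mul_zero] at hew
    exact hew rfl
  set b := hermForm 5 F q e e with hb
  set c : F := -2 / b with hcd
  have hcb : c * b = -2 := by rw [hcd, div_mul_cancel₀ _ hee]
  have hbq : b ^ q = b := herm_self_pow hF e
  have hcq : c ^ q = c := by
    have h3 : c ^ q * b = c * b := by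
      rw [hcb]
      conv_lhs => rw [← hbq]
      rw [← mul_pow, hcb, neg_pow_q hF]
      congr 1
      have : (2 : F) = ((2 : ℕ) : F) := by norm_num
      rw [this, h.qp]
      have hpf : Fact p.Prime := ⟨h.pp⟩
      have h5 := map_natCast (iterateFrobenius F p n) 2
      rwa [iterateFrobenius_def] at h5
    exact mul_right_cancel₀ hee h3
  let M : Matrix (Fin 5) (Fin 5) F := -(rankOne q (c • e) e)
  have hMv : ∀ x, M *ᵥ x = -(x + (c * hermForm 5 F q x e) • e) := by
    intro x
    show (-(rankOne q (c • e) e)) *ᵥ x = _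
    rw [Matrix.neg_mulVec, rankOne_mulVec, smul_smul, mul_comm]
  have hMdet : M.det = 1 := by
    show (-(rankOne q (c • e) e)).det = 1
    rw [Matrix.det_neg, det_rankOne, herm_smul_left, ← hb, hcb, Fintype.card_fin]
    ring
  have hMh : ∀ x y, hermForm 5 F q (M *ᵥ x) (M *ᵥ y) = hermForm 5 F q x y := by
    intro x y
    rw [hMv, hMv, herm_neg_left, herm_neg_right hF, neg_neg, herm_add_left, herm_add_right hF, herm_add_right hF,
      herm_smul_left, herm_smul_left, herm_smul_right, herm_smul_right, ← hb, mul_pow, hcq, ← herm_swap hF y e]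
    linear_combination (c * hermForm 5 F q x e * hermForm 5 F q e y) * hcb
  let z : Cfsg.SU 5 F q := mk M hMdet hMh
  have hz : ∀ x, act z x = -(x + (c * hermForm 5 F q x e) • e) := fun x => by rw [act_mk, hMv]
  have hz2 : z ^ 2 = 1 := by
    apply ext_act
    intro x
    rw [pow_two, act_mul, hz, hz, act_one, herm_neg_left, herm_add_left, herm_smul_left, ← hb]
    ext i
    simp only [Pi.add_apply, Pi.neg_apply, Pi.smul_apply, smul_eq_mul]
    linear_combination (c * hermForm 5 F q x e * e i) * hcb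
  have hz1 : z ≠ 1 := by
    intro h1
    obtain ⟨h3, -⟩ := four_rank h hI hr1 hne
    have hcm : cm (T (suHom 5 F q s)) ≠ ⊥ := by
      intro h4
      rw [h4, finrank_bot] at h3
      omega
    obtain ⟨u, hu, hu0⟩ := (cm (T (suHom 5 F q s))).exists_mem_ne_zero_of_ne_bot hcm
    have h4 : hermForm 5 F q u e = 0 := herm_eq_zero_swap hF (hI.fx_cm (frm_herm hF 5) he hu)
    have h5 := hz u
    rw [h1, act_one, h4, mul_zero, zero_smul, add_zero] at h5
    apply hu0
    have h6 : (2 : F) • u = 0 := by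
      rw [two_smul]
      nth_rewrite 1 [h5]
      rw [neg_add_cancel]
    exact (smul_eq_zero.1 h6).resolve_left h2F
  have hf2 : Fact (Nat.Prime 2) := ⟨Nat.prime_two⟩
  have hzo : orderOf z = 2 := orderOf_eq_prime hz2 hz1
  have hcomm : Commute s z := by
    show s * z = z * s
    apply ext_act
    intro x
    rw [act_mul, act_mul, hz, hz, ← neg_one_smul F (x + _), act_smul, act_add, act_smul, hse, neg_one_smul]
    congr 3
    conv_rhs => rw [← hse, herm_act]
  refine ⟨s * z, ?_⟩
  have hco : Nat.Coprime (orderOf s) (orderOf z) := by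
    rw [hs, hzo]
    have := h.ger
    exact (Nat.coprime_primes h.pr Nat.prime_two).2 (by omega)
  rw [hcomm.orderOf_mul_eq_mul_orderOf_of_coprime hco, hs, hzo]

end Cfsg.Agent.H269.U5
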