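import Mathlib
import Cfsg.Agent.H269.U5.Exist

/-!
# `PSU₅(q)` has no normal 2-covering: the first witness (helper269, for S2499)
-/

set_option autoImplicit false
set_option linter.style.haveILetI false
set_option linter.unusedSectionVars false

namespace Cfsg.Agent.H269.U5

open Cfsg Cfsg.Agent.H918
open scoped MatrixGroups Matrix

/-- `(p ^ 5 + 1) / (p + 1)` -/
def aa (p : ℕ) : ℕ := p ^ 3 * (p - 1) + p * (p - 1) + 1

theorem aa_mul {p : ℕ} (hp : 1 ≤ p) : (p + 1) * aa p = p ^ 5 + 1 := by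
  obtain ⟨m, rfl⟩ : ∃ m, p = m + 1 := ⟨p - 1, by omega⟩
  rw [aa, Nat.add_sub_cancel]
  ring

theorem aa_odd {p : ℕ} : ¬ 2 ∣ aa p := by
  intro h
  have h1 : 2 ∣ p * (p - 1) := by
    rcases Nat.even_or_odd p with h2 | h2
    · exact h2.two_dvd.mul_right _
    · obtain ⟨k, hk⟩ := h2
      exact Dvd.dvd.mul_left ⟨k, by omega⟩ _
  have h2 : aa p = (p ^ 2 + 1) * (p * (p - 1)) + 1 := by rw [aa]; ring
  rw [h2] at h
  have h3 := (Nat.dvd_add_right (h1.mul_left (p ^ 2 + 1))).1 h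
  omega

theorem aa_ge {p : ℕ} (hp : 3 ≤ p) : 61 ≤ aa p := by
  have h1 : 3 ^ 3 * 2 ≤ p ^ 3 * (p - 1) := Nat.mul_le_mul (Nat.pow_le_pow_left hp 3) (by omega)
  have h2 : 3 * 2 ≤ p * (p - 1) := Nat.mul_le_mul hp (by omega)
  rw [aa]
  omega

theorem aa_cast {p : ℕ} (hp : 1 ≤ p) (m : ℕ) :
    ((aa p : ℕ) : ZMod m) = (p : ZMod m) ^ 4 - (p : ZMod m) ^ 3 + (p : ZMod m) ^ 2 - (p : ZMod m) + 1 := by
  rw [aa]
  push_cast [Nat.cast_sub hp]
  ring

theorem aa_25 {p : ℕ} (hp : 1 ≤ p) : ¬ 5 ^ 2 ∣ aa p := by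
  intro h
  have h1 := (ZMod.natCast_eq_zero_iff (aa p) (5 ^ 2)).2 h
  rw [aa_cast hp] at h1
  have h2 : ∀ x : ZMod (5 ^ 2), x ^ 4 - x ^ 3 + x ^ 2 - x + 1 ≠ 0 := by decide +kernel
  exact h2 _ h1

variable {F : Type*} [Field F] [Fintype F] {p n q : ℕ}

/-- the prime divisors of `aa p` -/
theorem prime_dvd_aa (hF : Fintype.card F = p ^ 2) (hp : p.Prime) {l : ℕ} (hl : l.Prime) (hd : l ∣ aa p) :
    l = 5 ∨ PN F p 1 p 10 l := by
  have hlf : Fact l.Prime := ⟨hl⟩
  have hp1 := hp.one_lt.le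
  have h2 : l ≠ 2 := by rintro rfl; exact aa_odd hd
  have h5 : (p : ZMod l) ^ 5 = -1 := by
    have h3 : l ∣ p ^ 5 + 1 := by rw [← aa_mul hp1]; exact hd.mul_left _
    have h4 := (ZMod.natCast_eq_zero_iff _ l).2 h3
    push_cast at h4
    exact eq_neg_of_add_eq_zero_left h4
  have hne : (-1 : ZMod l) ≠ 1 := by
    intro h3
    have h4 : ((2 : ℕ) : ZMod l) = 0 := by push_cast; linear_combination -h3
    have h6 := (ZMod.natCast_eq_zero_iff 2 l).1 h4
    exact h2 ((Nat.prime_dvd_prime_iff_eq hl Nat.prime_two).1 h6)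
  have h10 : orderOf (p : ZMod l) ∣ 10 := by
    apply orderOf_dvd_of_pow_eq_one
    rw [show (p : ZMod l) ^ 10 = ((p : ZMod l) ^ 5) ^ 2 by ring, h5]
    ring
  have hn5 : ¬ orderOf (p : ZMod l) ∣ 5 := by
    rw [orderOf_dvd_iff_pow_eq_one, h5]
    exact hne
  have hmem : orderOf (p : ZMod l) ∈ Nat.divisors 10 := Nat.mem_divisors.2 ⟨h10, by norm_num⟩
  rw [show Nat.divisors 10 = {1, 2, 5, 10} by decide +kernel] at hmem
  simp only [Finset.mem_insert, Finset.mem_singleton] at hmem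
  rcases hmem with h3 | h3 | h3 | h3
  · exact absurd (h3 ▸ one_dvd 5) hn5
  · left
    have h4 : (p : ZMod l) ^ 2 = 1 := by rw [← h3]; exact pow_orderOf_eq_one _
    have h6 : (p : ZMod l) = -1 := by
      linear_combination h5 - ((p : ZMod l) ^ 3 + (p : ZMod l)) * h4
    have h7 := (ZMod.natCast_eq_zero_iff (aa p) l).2 hd
    rw [aa_cast hp1, h6] at h7
    have h8 : ((5 : ℕ) : ZMod l) = 0 := by
      push_cast
      linear_combination h7
    exact (Nat.prime_dvd_prime_iff_eq hl (by norm_num)).1 ((ZMod.natCast_eq_zero_iff 5 l).1 h8)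
  · exact absurd (dvd_of_eq h3) hn5
  · right
    refine ⟨hp, one_pos, (pow_one p).symm, hF, hl, by norm_num, ?_, ?_, ?_⟩
    · intro j
      have h4 : ((p ^ j : ℕ) : ZMod l) = ((1 : ℕ) : ZMod l) ↔ l ∣ p ^ j - 1 := by
        rw [ZMod.natCast_eq_natCast_iff, Nat.ModEq.comm, Nat.modEq_iff_dvd' (Nat.one_le_pow _ _ hp.pos)]
      rw [mul_one, ← h3, orderOf_dvd_iff_pow_eq_one, ← h4]
      push_cast
      exact Iff.rfl
    · rw [mul_one, ← h3]
      apply orderOf_dvd_of_pow_eq_one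
      apply ZMod.pow_card_sub_one_eq_one
      intro h4
      rw [h4, zero_pow (by norm_num)] at h5
      exact one_ne_zero (α := ZMod l) (by linear_combination h5)
    · intro h4
      have h6 := (ZMod.natCast_eq_zero_iff p l).2 h4
      rw [h6, zero_pow (by norm_num)] at h5
      exact one_ne_zero (α := ZMod l) (by linear_combination h5)

theorem not_dvd_nums {r : ℕ} (hr : r.Prime) (h10 : 10 < r) (h11 : r ≠ 11) : ¬ r ∣ 13200 ∧ ¬ r ∣ 51840 := by
  constructor
  · intro h3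
    have h4 : r ∣ 5 ^ 2 * (11 * (2 ^ 4 * 3)) := by norm_num; exact h3
    rcases hr.dvd_mul.1 h4 with h5 | h5
    · have := Nat.le_of_dvd (by norm_num) (hr.dvd_of_dvd_pow h5); omega
    · rcases hr.dvd_mul.1 h5 with h6 | h6
      · exact h11 ((Nat.prime_dvd_prime_iff_eq hr (by norm_num)).1 h6)
      · rcases hr.dvd_mul.1 h6 with h7 | h7
        · have := Nat.le_of_dvd (by norm_num) (hr.dvd_of_dvd_pow h7); omega
        · have := Nat.le_of_dvd (by norm_num) h7; omega
  · intro h3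
    have h4 : r ∣ 5 * (2 ^ 7 * 3 ^ 4) := by norm_num; exact h3
    rcases hr.dvd_mul.1 h4 with h5 | h5
    · have := Nat.le_of_dvd (by norm_num) h5; omega
    · rcases hr.dvd_mul.1 h5 with h6 | h6
      · have := Nat.le_of_dvd (by norm_num) (hr.dvd_of_dvd_pow h6); omega
      · have := Nat.le_of_dvd (by norm_num) (hr.dvd_of_dvd_pow h6); omega

/-- **the first witness** -/
theorem exists_A (hF : Fintype.card F = q ^ 2) (hq : 3 ≤ q) (hp : p.Prime) (hn : 0 < n) (hqp : q = p ^ n) :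
    ∃ r, PN F p n q 10 r ∧ ∃ (x : Cfsg.SU 5 F q) (m : ℕ), orderOf x = r ^ (m + 1) ∧ ¬ orderOf x ∣ 13200 ∧
      ¬ orderOf x ∣ 51840 := by
  by_cases hex : ∃ r, PN F p n q 10 r ∧ r ≠ 11
  · obtain ⟨r, h, hr11⟩ := hex
    obtain ⟨x, hx⟩ := exists_ord h (d := 3) rfl (by norm_num) (Or.inr (by decide))
    obtain ⟨h1, h2⟩ := not_dvd_nums h.pr h.ger hr11
    exact ⟨r, h, x, 0, by rw [hx, zero_add, pow_one], by rw [hx]; exact h1, by rw [hx]; exact h2⟩
  push Not at hex
  obtain ⟨r, h⟩ := exists_PN hF hp hn hqp (k := 10) (by norm_num) (by rintro ⟨-, h1⟩; omega)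
  have hr := hex r h
  subst hr
  have hn1 : n = 1 := by
    have := h.ge
    omega
  subst hn1
  rw [pow_one] at hqp
  subst hqp
  have h121 : 11 ^ 2 ∣ aa q := by
    by_contra hcon
    have ha0 : aa q ≠ 0 := by have := aa_ge hq; omega
    have h1 : aa q ∣ 55 := by
      refine (Nat.factorization_prime_le_iff_dvd ha0 (by norm_num)).1 fun l hl => ?_
      by_cases hd : l ∣ aa q
      · rcases prime_dvd_aa hF hp hl hd with rfl | hP
        · have h2 : (aa q).factorization 5 < 2 := by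
            by_contra h3
            exact aa_25 (by omega) ((hl.pow_dvd_iff_le_factorization ha0).2 (by omega))
          have h4 : 1 ≤ (55 : ℕ).factorization 5 :=
            (hl.pow_dvd_iff_le_factorization (by norm_num)).1 (by norm_num)
          omega
        · have h5 := hex l hP
          subst h5
          have h2 : (aa q).factorization 11 < 2 := by
            by_contra h3
            exact hcon ((hl.pow_dvd_iff_le_factorization ha0).2 (by omega))
          have h4 : 1 ≤ (55 : ℕ).factorization 11 :=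
            (hl.pow_dvd_iff_le_factorization (by norm_num)).1 (by norm_num)
          omega
      · rw [Nat.factorization_eq_zero_of_not_dvd hd]
        exact Nat.zero_le _
    have := Nat.le_of_dvd (by norm_num) h1
    have := aa_ge hq
    omega
  have hdS : 11 ^ 2 ∣ Nat.card (Cfsg.SU 5 F q) := by
    refine Cfsg.Agent.H948.UProd.dvd_card_SU hF (m := 5) (i := 4) (by norm_num) (by norm_num) ?_
    rw [Cfsg.Agent.H948.UProd.ph, if_pos (by decide)]
    show 11 ^ 2 ∣ q ^ 5 + 1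
    rw [← aa_mul (by omega)]
    exact h121.mul_left _
  have hf : Fact (Nat.Prime 11) := ⟨by norm_num⟩
  obtain ⟨P⟩ : Nonempty (Sylow 11 (Cfsg.SU 5 F q)) := inferInstance
  have hcyc : IsCyclic P := by
    refine Cfsg.Agent.LieExceptional.CyclicSylow.isCyclic_of_isPGroup_of_hom_GL (F := F) (n := 5) (p := 11) ?_ ?_
      P.isPGroup' ((suHom 5 F q).comp (P : Subgroup (Cfsg.SU 5 F q)).subtype)
      (suHom_injective.comp (P : Subgroup (Cfsg.SU 5 F q)).subtype_injective)
    · rw [Nat.card_eq_fintype_card, hF]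
      exact fun h1 => h.rp (h.pr.dvd_of_dvd_pow h1)
    · intro i h0 h5
      rw [Nat.card_eq_fintype_card, hF, ← pow_mul, h.iff]
      intro h6
      omega
  obtain ⟨x, hx⟩ := hcyc.exists_generator
  have hxo : orderOf (x : Cfsg.SU 5 F q) = Nat.card P := by
    rw [Subgroup.orderOf_coe]
    exact orderOf_eq_card_of_forall_mem_zpowers hx
  have hcP : Nat.card P = 11 ^ (Nat.card (Cfsg.SU 5 F q)).factorization 11 := P.card_eq_multiplicity
  have h2 : 2 ≤ (Nat.card (Cfsg.SU 5 F q)).factorization 11 :=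
    (hf.out.pow_dvd_iff_le_factorization Nat.card_pos.ne').1 hdS
  obtain ⟨m, hm⟩ : ∃ m, (Nat.card (Cfsg.SU 5 F q)).factorization 11 = m + 1 :=
    ⟨(Nat.card (Cfsg.SU 5 F q)).factorization 11 - 1, by omega⟩
  have hd : 11 ^ 2 ∣ orderOf (x : Cfsg.SU 5 F q) := by
    rw [hxo, hcP]
    exact pow_dvd_pow 11 h2
  refine ⟨11, h, x, m, by rw [hxo, hcP, hm], fun h3 => ?_, fun h3 => ?_⟩
  · have := hd.trans h3
    norm_num at this
  · have := hd.trans h3
    norm_num at this

end Cfsg.Agent.H269.U5
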