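import Mathlib
import Cfsg.Agent.H269.U5.Max
import Cfsg.Agent.H269.U5.ExistA

/-!
# `SU₅(2)`: the proper subgroups of order divisible by 11 (helper269, for S2499)
-/

set_option autoImplicit false
set_option linter.style.haveILetI false
set_option linter.unusedSectionVars false

namespace Cfsg.Agent.H269.U5

open Cfsg Cfsg.Geo Module Cfsg.Agent.H951 Cfsg.Agent.H950 Cfsg.Agent.H918
open scoped MatrixGroups Matrix

variable {F : Type*} [Field F] [Fintype F]

theorem scalar_two (hF : Fintype.card F = 2 ^ 2) {x : GL (Fin 5) F} (hx : x ∈ SUg 5 F 2) (hs : x ∈ scalars (Fin 5) F) :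
    x = 1 := by
  obtain ⟨c, hc⟩ := (mem_scalars_iff x).1 hs
  have hd := (mem_SUg.1 hx).2
  rw [hc, Matrix.det_smul, Matrix.det_one, mul_one, Fintype.card_fin] at hd
  have h3 : (c : F) ^ 3 = 1 := by
    have := FiniteField.pow_card_sub_one_eq_one (c : F) c.ne_zero
    rwa [hF] at this
  have h1 : (c : F) = 1 := by
    linear_combination ((c : F) ^ 3 + 1) * h3 - (c : F) * hd
  apply Units.ext
  rw [hc, h1, one_smul, Units.val_one]

/-- **a proper subgroup of `SU₅(2)` of order divisible by 11 has order dividing 13200** -/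
theorem su52_eleven (hF : Fintype.card F = 2 ^ 2) {M : Subgroup (Cfsg.SU 5 F 2)} (hM : M ≠ ⊤) (h11 : 11 ∣ Nat.card M) :
    Nat.card M ∣ 13200 := by
  have hfin : Finite (Cfsg.SU 5 F 2) := inferInstance
  have hf11 : Fact (Nat.Prime 11) := ⟨by norm_num⟩
  have hPN : PN F 2 1 2 10 11 :=
    (prime_dvd_aa hF Nat.prime_two (l := 11) (by norm_num) (by decide)).resolve_left (by norm_num)
  obtain ⟨x, hx⟩ := exists_prime_orderOf_dvd_card' (G := M) 11 h11
  obtain ⟨N, hN, hMN⟩ := (eq_top_or_exists_le_coatom M).resolve_left hM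
  have hmax := max_of_coatom hN
  have hxo : orderOf (x : Cfsg.SU 5 F 2) = 11 := by rw [Subgroup.orderOf_coe, hx]
  obtain ⟨hI, hr1, hne⟩ := T_facts (by norm_num) hxo
  set s := suHom 5 F 2 (x : Cfsg.SU 5 F 2) with hs
  have hsH : s ∈ N.map (suHom 5 F 2) := ⟨_, hMN x.2, rfl⟩
  have hso : orderOf s = 11 := by rw [hs, orderOf_suHom, hxo]
  have hs11 : s ^ 11 = 1 := by rw [← hso]; exact pow_orderOf_eq_one s
  have hs1 : s ≠ 1 := ne_one_of_order (by norm_num) hso
  rcases geom hPN (d := 5) rfl (by norm_num) hmax hsH hs11 hs1 with ⟨W, hW0, hWs, hle⟩ | ⟨W, hW0, -, hW5, hle⟩ |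
    ⟨h3, -⟩ | hres
  · exfalso
    rcases ten hPN hI hr1 hne (inv_of_stab (hle hsH)) with h4 | h4
    · exact hW0 h4
    · have h5 := (frm_herm hF 5).two_mul_finrank_le (nd_top hF 5) le_top hWs
      rw [h4, finrank_top, finrank_V] at h5
      omega
  · exfalso
    rcases ten hPN hI hr1 hne (inv_of_stab (hle hsH)) with h4 | h4
    · exact hW0 h4
    · rw [h4, finrank_top, finrank_V] at hW5
      omega
  · omega
  · obtain ⟨P, hP, -, hcases⟩ := Cfsg.Agent.S5797.result 2 hF _ hmax hres
    have h3 := res_card hP (hcases.imp (fun h => h.1) (fun h => h.1)) (X := M.map (suHom 5 F 2))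
      (Subgroup.map_mono hMN) (fun y hy hsy => scalar_two hF (by
        obtain ⟨z, -, rfl⟩ := hy
        exact suHom_mem z) hsy)
    rw [Subgroup.card_map_of_injective suHom_injective] at h3
    rcases h3 with h3 | h3
    · exact h3
    · have := h11.trans h3
      norm_num at this

end Cfsg.Agent.H269.U5
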