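import Cfsg.Agent.H251.Der.U52Row
import Cfsg.Agent.OrdDiv.Table
import Cfsg.Agent.H278.Cov.Defs
import Cfsg.Agent.H269.U5.TwoGeo

/-!
# `U₅(2)` has no normal 2-covering (helper269, for S2499)

Elements of orders 11, 15 and 18 are pairwise incompatible (from helper251's analysis of the proper subgroups of `U₅(2)`).
-/

set_option autoImplicit false

namespace Cfsg.Agent.H269.U5

open Subgroup Cfsg Cfsg.Agent.H396 Cfsg.Agent.OrdDiv Cfsg.Agent.H251.Small Cfsg.Agent.H439.Der Cfsg.Agent.H251.Der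
open Cfsg.Agent.H278.Cov

variable {F : Type} [Field F] [Fintype F]

theorem psu52_eleven (hF : Fintype.card F = 2 ^ 2) {M : Subgroup (PSU 5 F 2)} (hM : M ≠ ⊤) (h11 : 11 ∣ Nat.card M) :
    Nat.card M ∣ 13200 := by
  have h1 : Nat.card (M.map (ep hF).symm.toMonoidHom) = Nat.card M :=
    Subgroup.card_map_of_injective (ep hF).symm.injective
  rw [← h1]
  refine su52_eleven hF (fun h2 => hM ?_) (by rw [h1]; exact h11)
  rw [eq_top_iff]
  intro y _
  have h3 : (ep hF).symm y ∈ M.map (ep hF).symm.toMonoidHom := by rw [h2]; trivial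
  obtain ⟨z, hz, hzy⟩ := h3
  have h4 : z = y := (ep hF).symm.injective hzy
  rwa [← h4]

/-- a proper subgroup of order divisible by 11 has no elements of orders 15 and 18 -/
theorem eleven_no (OT : OrderTable.{0})
    (hS : ∀ (X : Type) [Group X] [Finite X] [IsSimpleGroup X], Cfsg.IsKnownSimple' X)
    (hF : Fintype.card F = 2 ^ 2) {M : Subgroup (PSU 5 F 2)} (hM : M ≠ ⊤) (h11 : 11 ∣ Nat.card M)
    {m : PSU 5 F 2} (hm : m ∈ M) : orderOf m ≠ 15 ∧ orderOf m ≠ 18 := by
  have hcard := card_u5 hF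
  have : Finite (PSU 5 F 2) := Nat.finite_of_card_ne_zero (by rw [hcard]; norm_num)
  have h11p : Fact (Nat.Prime 11) := ⟨by norm_num⟩
  have hdvd := psu52_eleven hF hM h11
  have hom : orderOf m ∣ Nat.card M := by
    have h1 := orderOf_dvd_natCard (⟨m, hm⟩ : M)
    rwa [Subgroup.orderOf_mk] at h1
  constructor
  swap
  · intro h18
    rw [h18] at hom
    have := hom.trans hdvd
    norm_num at this
  intro h15
  rw [h15] at hom
  have D := data_u52 OT hS hF
  have hle := le_u52 hF hM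
  obtain ⟨L, hLn, R, hRn, P, hP, hPL, hs, hcH, hmem, hna⟩ := exists_trip D M (p := 11) (k := 1) (M := 5) (by simp)
    h11 (l := [(2, 10), (3, 5), (5, 1), (11, 1)]) (by rw [hcard]; decide +kernel)
    (fun h => Nat.beq (h % 15) 0 && Nat.ble h 82944) (by
      rw [Bool.and_eq_true, Nat.beq_eq, Nat.ble_eq]
      omega)
  rw [show trip 11 1 5 [2, 3, 5, 11] tbl5 [(2, 10), (3, 5), (5, 1), (11, 1)]
    (fun h => Nat.beq (h % 15) 0 && Nat.ble h 82944) = [(13365, 5, 11), (660, 1, 660), (7920, 1, 7920)] by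
      decide +kernel] at hmem
  simp only [List.mem_cons, List.not_mem_nil, or_false, Prod.mk.injEq] at hmem
  rcases hmem with ⟨e1, -⟩ | ⟨e1, e2, e3⟩ | ⟨e1, -⟩
  · rw [e1] at hdvd
    norm_num at hdvd
  · have h1 := hna.resolve_left (by rw [e3]; norm_num)
    obtain ⟨z, hz⟩ : ∃ z : L ⧸ R, orderOf z = orderOf m := by
      refine exists_sec (R := R) (x := (⟨m, hm⟩ : M)) (by rw [Subgroup.orderOf_mk]) (by rw [e2]; exact Nat.coprime_one_right _) ?_
      rw [e1, e2, e3, mul_one] at hcH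
      rw [show Nat.card R = 1 by omega]
      exact Nat.coprime_one_right _
    have h3 := ord_660 OT hS h1 e3 z
    rw [hz, h15] at h3
    simp at h3
  · rw [e1] at hdvd
    norm_num at hdvd

/-- incompatibility from orders -/
theorem inc_of {G : Type*} [Group G] {x y : G} {a b : ℕ} (hx : orderOf x = a) (hy : orderOf y = b)
    (h : ∀ M : Subgroup G, M ≠ ⊤ → ∀ u ∈ M, ∀ v ∈ M, orderOf u = a → orderOf v = b → False) : Inc x y := by
  intro M hM
  by_cases h1 : ∃ u ∈ M, orderOf u = a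
  · obtain ⟨u, hu, hua⟩ := h1
    right
    apply av_of_order
    intro v hv hvb
    exact h M hM u hu v hv hua (hvb.trans hy)
  · left
    apply av_of_order
    intro u hu hua
    exact h1 ⟨u, hu, hua.trans hx⟩

/-- **`U₅(2)`** -/
theorem noTwo_u52' (OT : OrderTable.{0})
    (hS : ∀ (X : Type) [Group X] [Finite X] [IsSimpleGroup X], Cfsg.IsKnownSimple' X)
    (hF : Fintype.card F = 2 ^ 2) : NoTwo (PSU 5 F 2) := by
  have hcard := card_u5 hF
  have : Finite (PSU 5 F 2) := Nat.finite_of_card_ne_zero (by rw [hcard]; norm_num)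
  have h11p : Fact (Nat.Prime 11) := ⟨by norm_num⟩
  obtain ⟨x11, hx11⟩ : ∃ x : PSU 5 F 2, orderOf x = 11 := exists_prime_orderOf_dvd_card' 11 (by rw [hcard]; norm_num)
  obtain ⟨x15, hx15⟩ := Cfsg.Agent.H541.RecU52.exists_fifteen hF
  obtain ⟨x18, hx18⟩ := exists_eighteen hF
  have hd : ∀ (M : Subgroup (PSU 5 F 2)) (u : PSU 5 F 2), u ∈ M → ∀ n, orderOf u = n → n ∣ Nat.card M := by
    intro M u hu n hn
    have := orderOf_dvd_natCard (⟨u, hu⟩ : M)
    rwa [Subgroup.orderOf_mk, hn] at this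
  have h1 : Inc x11 x15 := inc_of hx11 hx15 fun M hM u hu v hv hua hvb =>
    (eleven_no OT hS hF hM (hd M u hu 11 hua) hv).1 hvb
  have h2 : Inc x11 x18 := inc_of hx11 hx18 fun M hM u hu v hv hua hvb =>
    (eleven_no OT hS hF hM (hd M u hu 11 hua) hv).2 hvb
  have h3 : Inc x15 x18 := inc_of hx15 hx18 fun M hM u hu v hv hua hvb => by
    have h11 : ¬ 11 ∣ Nat.card M := fun h => (eleven_no OT hS hF hM h hu).1 hua
    have h5 : 5 ∣ Nat.card M := (by norm_num : 5 ∣ 15).trans (hd M u hu 15 hua)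
    have h9 : orderOf (v ^ 2) = 9 := by rw [orderOf_pow' _ (by norm_num), hvb]; rfl
    obtain ⟨-, h18 | h15⟩ := five_nine OT hS hF h5 h11 (M.pow_mem hv 2) h9
    · exact h18 v hv hvb
    · exact h15 u hu hua
  exact noTwo_of_three h1 h3 h2

end Cfsg.Agent.H269.U5
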