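import Cfsg.Agent.H269.U5.Main
import Cfsg.Agent.H269.U5.Two
import Cfsg.Agent.S0000

/-!
# `PSU₅(q)` has no normal 2-covering (helper269, task 3950, for S2499)
-/

set_option autoImplicit false

namespace Cfsg.Agent.H269.U5

open Cfsg Cfsg.Agent.H278.Cov

/-- **`PSU₅(q)`, `q ≥ 2`** -/
theorem noTwo_psu5 {q : ℕ} {F : Type} [Field F] [Fintype F] (hF : Fintype.card F = q ^ 2) : NoTwo (PSU 5 F q) := by
  have hq : 2 ≤ q := Cfsg.Agent.LieClassical.HermBasic.two_le hF
  rcases Nat.lt_or_ge 2 q with h | h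
  · exact (noTwo_su5 hF h).of_surjective (QuotientGroup.mk' _) (QuotientGroup.mk'_surjective _)
  · obtain rfl : q = 2 := le_antisymm h hq
    exact noTwo_u52' OrdDiv.table (fun X _ _ _ => Cfsg.Agent.S0000.result) hF

end Cfsg.Agent.H269.U5
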