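import Cfsg.Agent.H269.U5.Max
import Cfsg.Agent.H269.U5.ExistA
import Cfsg.Agent.H278.Cov.Defs

/-!
# `PSU₅(q)` has no normal 2-covering, `q ≥ 3` (helper269, for S2499)
-/

set_option autoImplicit false
set_option linter.style.haveILetI false

namespace Cfsg.Agent.H269.U5

open Cfsg Cfsg.Geo Module Cfsg.Agent.H951 Cfsg.Agent.H950 Cfsg.Agent.H918 Cfsg.Agent.H278.Cov
open scoped MatrixGroups Matrix

variable {F : Type*} [Field F] [Fintype F] {q : ℕ}

theorem orderOf_conj' {G : Type*} [Group G] (g x : G) : orderOf (g * x * g⁻¹) = orderOf x := by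
  have : g * x * g⁻¹ = (MulAut.conj g).toMonoidHom x := rfl
  rw [this]
  exact orderOf_injective _ (MulAut.conj g).injective x

/-- **`SU₅(q)`, `q ≥ 3`** -/
theorem noTwo_su5 (hF : Fintype.card F = q ^ 2) (hq : 3 ≤ q) : NoTwo (Cfsg.SU 5 F q) := by
  obtain ⟨p, n, hp, hn, hqp, hchar⟩ := exists_base hF
  obtain ⟨rA, hA, a, m, hao, ha1, ha2⟩ := exists_A hF hq hp hn hqp
  obtain ⟨rB, hB⟩ := exists_PN hF hp hn hqp (k := 6) (by norm_num) (by
    rintro ⟨h2, h6⟩
    have : n = 1 := by omega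
    rw [h2, this] at hqp
    omega)
  obtain ⟨b, hbo⟩ := exists_B hB
  obtain ⟨rC, hC⟩ := exists_PN hF hp hn hqp (k := 4) (by norm_num) (by rintro ⟨-, h6⟩; omega)
  obtain ⟨c, hco⟩ : ∃ c : Cfsg.SU 5 F q, (orderOf c = rC ∧ rC ≠ 5) ∨ orderOf c = rC * 2 := by
    by_cases hp2 : p = 2
    · obtain ⟨c, hc⟩ := exists_ord hC (d := 0) rfl (by norm_num) (Or.inl rfl)
      refine ⟨c, Or.inl ⟨hc, ?_⟩⟩
      have hge := hC.ge
      have : n ≠ 1 := by
        rintro rfl
        rw [hp2] at hqp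
        omega
      omega
    · obtain ⟨c, hc⟩ := exists_C hC hp2
      exact ⟨c, Or.inr hc⟩
  have hfin : Finite (Cfsg.SU 5 F q) := inferInstance
  have hmax : ∀ M : Subgroup (Cfsg.SU 5 F q), IsCoatom M → IsMaximalIn (SUg 5 F q) (M.map (suHom 5 F q)) :=
    fun M hM => max_of_coatom hM
  have hcase : ∀ M : Subgroup (Cfsg.SU 5 F q), IsCoatom M → ∀ x ∈ M, orderOf x = rA ^ (m + 1) →
      ∃ K : Subalgebra F (Matrix (Fin 5) (Fin 5) F), IsFieldSubalgebra 5 K ∧
        M.map (suHom 5 F q) ≤ subalgebraNormalizer K := by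
    intro M hM x hx hxo
    have hxo' : orderOf (suHom 5 F q x) = rA ^ (m + 1) := by rw [orderOf_suHom, hxo]
    rw [hao] at ha1 ha2
    exact max_ten hA (hmax M hM) ⟨x, hx, rfl⟩ hxo' (by rw [hxo']; exact ha1) (by rw [hxo']; exact ha2)
  have hcaseB : ∀ M : Subgroup (Cfsg.SU 5 F q), IsCoatom M → ∀ x ∈ M, orderOf x = rB * p →
      (∃ W : Submodule F (Fin 5 → F), finrank F W = 1 ∧ TI (hermForm 5 F q) W ∧
        M.map (suHom 5 F q) ≤ subspaceStabilizer W) ∨
      (∃ W : Submodule F (Fin 5 → F), finrank F W = 2 ∧ Nd (hermForm 5 F q) W ∧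
        M.map (suHom 5 F q) ≤ subspaceStabilizer W) := by
    intro M hM x hx hxo
    exact max_six hB (hmax M hM) ⟨x, hx, rfl⟩ (by rw [orderOf_suHom, hxo])
  refine noTwo_of_two (a := a) (b := b) ?_ ?_
  · -- no maximal subgroup contains conjugates of both witnesses
    intro H hH
    by_contra hcon
    push Not at hcon
    obtain ⟨h1, h2⟩ := hcon
    obtain ⟨g1, hg1⟩ := not_av h1
    obtain ⟨g2, hg2⟩ := not_av h2
    have hao' : orderOf (suHom 5 F q (g1 * a * g1⁻¹)) = rA ^ (m + 1) := by rw [orderOf_suHom, orderOf_conj', hao]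
    set y := suHom 5 F q (g1 * a * g1⁻¹) with hy
    have hyH : y ∈ H.map (suHom 5 F q) := ⟨_, hg1, rfl⟩
    have hso : orderOf (y ^ rA ^ m) = rA := by
      rw [orderOf_pow_of_dvd (pow_ne_zero _ hA.pr.ne_zero) (by rw [hao', pow_succ]; exact dvd_mul_right _ _), hao', pow_succ,
        Nat.mul_div_cancel_left _ (pow_pos hA.pr.pos _)]
    have hs : (y ^ rA ^ m) ^ rA = 1 := by
      have h3 := pow_orderOf_eq_one (y ^ rA ^ m)
      rwa [hso] at h3
    have hs1 : y ^ rA ^ m ≠ 1 := ne_one_of_order hA.pr hso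
    have hTs : T (y ^ rA ^ m) ^ rA = 1 := by rw [← T_pow, hs, T_one]
    have hTs1 : T (y ^ rA ^ m) ≠ 1 := fun h3 => hs1 (T_inj (by rw [h3, T_one]))
    have hsG : y ^ rA ^ m ∈ SUg 5 F q := Subgroup.pow_mem _ (suHom_mem _) _
    have key : ∀ W : Submodule F (Fin 5 → F), H.map (suHom 5 F q) ≤ subspaceStabilizer W → W = ⊥ ∨ W = ⊤ :=
      fun W hW => ten hA (isom_T hsG.1) hTs hTs1 (inv_of_stab (Subgroup.pow_mem _ (hW hyH) _))
    rcases hcaseB H hH _ hg2 (by rw [orderOf_conj', hbo]) with ⟨W, hW1, -, hHW⟩ | ⟨W, hW2, -, hHW⟩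
    · rcases key W hHW with h3 | h3
      · rw [h3, finrank_bot] at hW1; omega
      · rw [h3, finrank_top, finrank_V] at hW1; omega
    · rcases key W hHW with h3 | h3
      · rw [h3, finrank_bot] at hW2; omega
      · rw [h3, finrank_top, finrank_V] at hW2; omega
  · intro H K hH hK haH hbK
    obtain ⟨E, hE, hHE⟩ := hcase H hH a haH hao
    refine ⟨c, ?_, ?_⟩
    · intro g hg
      have h1 : orderOf (suHom 5 F q (g * c * g⁻¹)) = orderOf c := by rw [orderOf_suHom, orderOf_conj']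
      have h2 := (third hC (suHom_mem (g * c * g⁻¹)) (by rw [h1]; exact hco)).2.2 E hE
      exact h2 (hHE ⟨_, hg, rfl⟩)
    · intro g hg
      have h1 : orderOf (suHom 5 F q (g * c * g⁻¹)) = orderOf c := by rw [orderOf_suHom, orderOf_conj']
      have h2 := third hC (suHom_mem (g * c * g⁻¹)) (by rw [h1]; exact hco)
      rcases hcaseB K hK b hbK hbo with ⟨W, hW1, hWt, hKW⟩ | ⟨W, hW2, hWn, hKW⟩
      · exact h2.1 W hWt (hKW ⟨_, hg, rfl⟩) hW1
      · exact h2.2.1 W hWn (hKW ⟨_, hg, rfl⟩) hW2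

end Cfsg.Agent.H269.U5
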